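import Groth.Agent.CohFinite.Linear
import Groth.Prelude.Def_Formal
import Groth.Agent.Devissage.FiniteSurjective
import Groth.Agent.QCohBase.CohProps
import Groth.Agent.QCohBase.Qcqs
import Groth.Agent.RPushQCoh.FiveTerm
import Mathlib.CategoryTheory.Abelian.Exact

/-!
# Quotients of modules by ideals of the base ring
-/

noncomputable section

universe u

open CategoryTheory Limits AlgebraicGeometry Opposite TopologicalSpace Groth.Agent.QCohBase
open Groth.Agent.CohFinite

namespace Groth.Agent.FormalFun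

variable {A : Type u} [CommRing A] {X : Scheme.{u}} [X.Over (Spec (CommRingCat.of A))]

variable (A) in
/-- The image of `a` among global functions. -/
abbrev gl (a : A) : Coh.Γtop X := Coh.toGlobal (X ↘ Spec (CommRingCat.of A)) a

lemma modAb_map_smulMod (M : X.Modules) (a : A) :
    (modAb X).map (Formal.smulMod A M a) = Coh.smulAb M (gl A a) := rfl

lemma modAb_map_injective {M N : X.Modules} {φ ψ : M ⟶ N}
    (h : (modAb X).map φ = (modAb X).map ψ) : φ = ψ := by
  haveI : (modAb X).Faithful := inferInstanceAs (SheafOfModules.toSheaf X.ringCatSheaf).Faithful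
  exact (modAb X).map_injective h

lemma smulMod_mul (M : X.Modules) (a b : A) :
    Formal.smulMod A M (a * b) = Formal.smulMod A M b ≫ Formal.smulMod A M a := by
  apply modAb_map_injective
  rw [Functor.map_comp, modAb_map_smulMod, modAb_map_smulMod, modAb_map_smulMod, gl, map_mul,
    Coh.smulAb_mul]
  rfl

lemma smulMod_add (M : X.Modules) (a b : A) :
    Formal.smulMod A M (a + b) = Formal.smulMod A M a + Formal.smulMod A M b := by
  apply modAb_map_injective
  rw [Functor.map_add, modAb_map_smulMod, modAb_map_smulMod, modAb_map_smulMod, gl, map_add,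
    Coh.smulAb_add]
  rfl

lemma smulMod_zero (M : X.Modules) : Formal.smulMod A M (0 : A) = 0 := by
  have h := smulMod_add M (0 : A) 0
  rw [add_zero] at h
  exact add_eq_left.1 h.symm

lemma smulMod_one (M : X.Modules) : Formal.smulMod A M (1 : A) = 𝟙 M := by
  apply modAb_map_injective
  rw [modAb_map_smulMod, gl, map_one, Coh.smulAb_one, CategoryTheory.Functor.map_id]
  rfl

lemma smulMod_naturality {M N : X.Modules} (φ : M ⟶ N) (a : A) :
    Formal.smulMod A M a ≫ φ = φ ≫ Formal.smulMod A N a := by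
  apply modAb_map_injective
  rw [Functor.map_comp, Functor.map_comp, modAb_map_smulMod, modAb_map_smulMod]
  exact smulAb_naturality φ _

lemma hhMap_smulMod (M : X.Modules) (a : A) (n : ℕ) (x : Coh.HH X M n) :
    hhMap A (Formal.smulMod A M a) n x = a • x := rfl

variable (A) in
/-- The scalars annihilated by a morphism. -/
def ann {M N : X.Modules} (φ : M ⟶ N) : Ideal A where
  carrier := {a | Formal.smulMod A M a ≫ φ = 0}
  zero_mem' := by rw [Set.mem_setOf, smulMod_zero, zero_comp]
  add_mem' := fun {a b} (ha : _ = 0) (hb : _ = 0) => by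
    rw [Set.mem_setOf, smulMod_add, Preadditive.add_comp, ha, hb, add_zero]
  smul_mem' := fun r a (ha : _ = 0) => by
    rw [Set.mem_setOf, smul_eq_mul, mul_comm, smulMod_mul, Category.assoc, ha, comp_zero]

lemma mem_ann {M N : X.Modules} {φ : M ⟶ N} {a : A} :
    a ∈ ann A φ ↔ Formal.smulMod A M a ≫ φ = 0 := Iff.rfl

variable (M : X.Modules)

/-- The quotient by an ideal. -/
abbrev Q (J : Ideal A) : X.Modules := cokernel (Formal.smulFamily J M)

/-- The projection. -/
abbrev qπ (J : Ideal A) : M ⟶ Q M J := cokernel.π (Formal.smulFamily J M)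

lemma le_ann_qπ (J : Ideal A) : J ≤ ann A (qπ M J) := fun a ha => by
  rw [mem_ann]
  have h := congrArg (fun g => Sigma.ι (fun _ : J => M) ⟨a, ha⟩ ≫ g)
    (cokernel.condition (Formal.smulFamily J M))
  simp only [comp_zero, Formal.smulFamily, colimit.ι_desc_assoc, Cofan.mk_ι_app, Discrete.natTrans_app] at h
  exact h

variable {M}

/-- Maps out of a quotient. -/
def qDesc {J : Ideal A} {N : X.Modules} (φ : M ⟶ N) (h : J ≤ ann A φ) : Q M J ⟶ N :=
  cokernel.desc _ φ (Sigma.hom_ext _ _ fun a => by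
    simp only [comp_zero, Formal.smulFamily, colimit.ι_desc_assoc, Cofan.mk_ι_app, Discrete.natTrans_app]
    exact mem_ann.1 (h a.2))

@[reassoc]
lemma π_qDesc {J : Ideal A} {N : X.Modules} (φ : M ⟶ N) (h : J ≤ ann A φ) :
    qπ M J ≫ qDesc φ h = φ := cokernel.π_desc _ _ _

variable (M)

/-- The transition maps. -/
def qTrans {J J' : Ideal A} (h : J ≤ J') : Q M J ⟶ Q M J' :=
  qDesc (qπ M J') (h.trans (le_ann_qπ M J'))

@[reassoc]
lemma π_qTrans {J J' : Ideal A} (h : J ≤ J') : qπ M J ≫ qTrans M h = qπ M J' := π_qDesc _ _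

lemma qTrans_trans {J J' J'' : Ideal A} (h : J ≤ J') (h' : J' ≤ J'') :
    qTrans M h ≫ qTrans M h' = qTrans M (h.trans h') := by
  rw [← cancel_epi (qπ M J), π_qTrans_assoc, π_qTrans, π_qTrans]

lemma qTrans_refl (J : Ideal A) : qTrans M (le_refl J) = 𝟙 (Q M J) := by
  rw [← cancel_epi (qπ M J), π_qTrans, Category.comp_id]

/-- Nothing happens modulo the zero ideal. -/
lemma isIso_qπ_bot : IsIso (qπ M (⊥ : Ideal A)) := by
  refine ⟨qDesc (J := (⊥ : Ideal A)) (𝟙 M) bot_le, π_qDesc _ _, ?_⟩
  rw [← cancel_epi (qπ M (⊥ : Ideal A)), π_qDesc_assoc, Category.id_comp, Category.comp_id]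

/-- An iterated quotient is a quotient. -/
lemma exists_qIso (J J' : Ideal A) :
    ∃ θ : Q M (J ⊔ J') ≅ Q (Q M J) J', qπ M (J ⊔ J') ≫ θ.hom = qπ M J ≫ qπ (Q M J) J' := by
  have h1 : J ⊔ J' ≤ ann A (qπ M J ≫ qπ (Q M J) J') := sup_le
    (fun a ha => by rw [mem_ann, ← Category.assoc, mem_ann.1 (le_ann_qπ M J ha), zero_comp])
    (fun a ha => by
      rw [mem_ann, ← Category.assoc, smulMod_naturality, Category.assoc,
        mem_ann.1 (le_ann_qπ (Q M J) J' ha), comp_zero])
  have h2 : J' ≤ ann A (qTrans M (le_sup_left : J ≤ J ⊔ J')) := fun a ha => by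
    rw [mem_ann, ← cancel_epi (qπ M J), comp_zero, ← Category.assoc, ← smulMod_naturality,
      Category.assoc, π_qTrans, mem_ann.1 (le_ann_qπ M (J ⊔ J') (Ideal.mem_sup_right ha))]
  refine ⟨⟨qDesc (qπ M J ≫ qπ (Q M J) J') h1, qDesc (qTrans M le_sup_left) h2, ?_, ?_⟩, π_qDesc _ h1⟩
  · rw [← cancel_epi (qπ M (J ⊔ J')), π_qDesc_assoc, Category.assoc, π_qDesc, π_qTrans, Category.comp_id]
  · rw [← cancel_epi (qπ (Q M J) J'), π_qDesc_assoc, Category.comp_id, ← cancel_epi (qπ M J),
      π_qTrans_assoc, π_qDesc]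

variable {M}

lemma isCoh_Q [IsLocallyNoetherian X] (hM : Coh.IsCoh M) {J : Ideal A}
    (hJ : J.FG) : Coh.IsCoh (Q M J) := by
  obtain ⟨n, g, hg⟩ := (Submodule.fg_iff_exists_fin_generating_family.1 hJ)
  suffices h : ∀ (m : ℕ) (g : Fin m → A) (N : X.Modules), Coh.IsCoh N →
      Coh.IsCoh (Q N (Ideal.span (Set.range g))) by
    rw [← hg]; exact h n g M hM
  intro m
  induction m with
  | zero =>
    intro g N hN
    rw [show Set.range g = ∅ from Set.range_eq_empty g, Ideal.span_empty]
    haveI := isIso_qπ_bot (A := A) N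
    exact isCoh_of_epi (qπ N (⊥ : Ideal A)) hN
      ((RPushQCoh.qcoh_of_iso (asIso (qπ N (⊥ : Ideal A))) hN.1))
  | succ m ih =>
    intro g N hN
    obtain ⟨θ, -⟩ := exists_qIso N (Ideal.span {g 0}) (Ideal.span (Set.range (Fin.tail g)))
    have hs : Coh.IsCoh (Q N (Ideal.span {g 0})) := by
      have hc := isCoh_cokernel (Formal.smulMod A N (g 0)) hN.1 hN
      let e : cokernel (Formal.smulMod A N (g 0)) ⟶ Q N (Ideal.span {g 0}) :=
        cokernel.desc _ (qπ N (Ideal.span {g 0}))
          (mem_ann.1 (le_ann_qπ N _ (Ideal.subset_span rfl)))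
      have he : IsIso e := by
        refine ⟨qDesc (cokernel.π (Formal.smulMod A N (g 0))) ((Ideal.span_singleton_le_iff_mem _).2
          (mem_ann.2 (cokernel.condition _))), ?_, ?_⟩
        · rw [← cancel_epi (cokernel.π (Formal.smulMod A N (g 0))), cokernel.π_desc_assoc, π_qDesc,
            Category.comp_id]
        · rw [← cancel_epi (qπ N (Ideal.span {g 0})), π_qDesc_assoc, cokernel.π_desc, Category.comp_id]
      haveI := he
      exact isCoh_of_epi e hc (RPushQCoh.qcoh_of_iso (asIso e) hc.1)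
    have := ih (Fin.tail g) _ hs
    rw [show Ideal.span (Set.range g) = Ideal.span {g 0} ⊔ Ideal.span (Set.range (Fin.tail g)) by
      rw [← Ideal.span_union]; congr 1
      rw [← Set.insert_eq, ← Fin.range_cons, Fin.cons_self_tail]]
    exact isCoh_of_epi θ.inv this (RPushQCoh.qcoh_of_iso θ.symm this.1)

/-- Kernels of powers stabilise. -/
theorem exists_kernel_stable [IsLocallyNoetherian X] [CompactSpace X] (hM : Coh.IsCoh M) (a : A) :
    ∃ c : ℕ, ∀ j, kernel.ι (Formal.smulMod A M (a ^ (c + j))) ≫ Formal.smulMod A M (a ^ c) = 0 := by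
  classical
  obtain ⟨ι, hι, W, hW, -, hcov⟩ :=
    exists_finite_affine_cover (X := X) (V := ⊤) (CompactSpace.isCompact_univ)
  haveI := hι
  have hs : ∀ i, ∃ c, ∀ j, c ≤ j → ∀ s : Γ(M, W i),
      (Formal.smulMod A M (a ^ j)).app (W i) s = 0 → (Formal.smulMod A M (a ^ c)).app (W i) s = 0 := by
    intro i
    haveI := isFiniteType_toFinite hM (hW i)
    haveI := QCohBase.isNoetherianRing_sections (hW i)
    let K : ℕ →o Submodule Γ(X, W i) Γ(M, W i) :=
      ⟨fun j => LinearMap.ker (appL (Formal.smulMod A M (a ^ j)) (W i)), fun j j' hjj' s hs => by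
        rw [LinearMap.mem_ker, appL_apply] at hs ⊢
        obtain ⟨d, rfl⟩ := Nat.exists_eq_add_of_le hjj'
        rw [add_comm, pow_add, smulMod_mul, Scheme.Modules.Hom.comp_app]
        exact (congrArg (fun t => (Formal.smulMod A M (a ^ d)).app (W i) t) hs).trans
          (map_zero ((Formal.smulMod A M (a ^ d)).app (W i)).hom)⟩
    obtain ⟨c, hc⟩ := monotone_stabilizes_iff_noetherian.2
      (isNoetherian_of_isNoetherianRing_of_finite Γ(X, W i) Γ(M, W i)) K
    exact ⟨c, fun j hj s hs => ((hc j hj).ge (show s ∈ K j from hs) : s ∈ K c)⟩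
  choose c hc using hs
  obtain ⟨C, hC⟩ := Finite.bddAbove_range c
  refine ⟨C, fun j => Devissage.hom_eq_zero_of_sections _
    (isQuasicoherent_kernel _ hM.1 hM.1) hM.1 W hW
    (fun x => Opens.mem_iSup.1 (hcov (Opens.mem_top x))) fun i s => ?_⟩
  have h0 : (Formal.smulMod A M (a ^ (C + j))).app (W i)
      ((kernel.ι (Formal.smulMod A M (a ^ (C + j)))).app (W i) s) = 0 :=
    congrArg (fun φ : _ ⟶ M => φ.app (W i) s) (kernel.condition (Formal.smulMod A M (a ^ (C + j))))
  have hci : c i ≤ C := hC ⟨i, rfl⟩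
  obtain ⟨d, rfl⟩ := Nat.exists_eq_add_of_le hci
  rw [Scheme.Modules.Hom.comp_app, show a ^ (c i + d) = a ^ d * a ^ c i by rw [← pow_add, add_comm],
    smulMod_mul, Scheme.Modules.Hom.comp_app]
  exact (congrArg (fun t => (Formal.smulMod A M (a ^ d)).app (W i) t) (hc i _ (by omega) _ h0)).trans
    (map_zero ((Formal.smulMod A M (a ^ d)).app (W i)).hom)

/-- Injections with cokernel `M/a^(c+j)`, compatible in `j`. -/
theorem exists_principal_seq [IsLocallyNoetherian X] [CompactSpace X] (hM : Coh.IsCoh M) (a : A) :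
    ∃ (c : ℕ) (N : X.Modules) (p : M ⟶ N) (g : ℕ → (N ⟶ M)), Coh.IsCoh N ∧
      (∀ j, p ≫ g j = Formal.smulMod A M (a ^ (c + j))) ∧
      (∀ j, g j ≫ p = Formal.smulMod A N (a ^ (c + j))) ∧
      (∀ j, g (j + 1) = g j ≫ Formal.smulMod A M a) ∧
      (∀ j, ∃ w : g j ≫ qπ M (Ideal.span {a ^ (c + j)}) = 0,
        (ShortComplex.mk (g j) (qπ M (Ideal.span {a ^ (c + j)})) w).ShortExact) ∧ Epi p := by
  obtain ⟨c, hc⟩ := exists_kernel_stable hM a
  let f := fun j => Formal.smulMod A M (a ^ (c + j))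
  let k := kernel.ι (Formal.smulMod A M (a ^ c))
  have hk : ∀ j, k ≫ f j = 0 := fun j => by
    show k ≫ Formal.smulMod A M (a ^ (c + j)) = 0
    rw [add_comm, pow_add, smulMod_mul, ← Category.assoc, kernel.condition, zero_comp]
  let g := fun j => cokernel.desc k (f j) (hk j)
  have hKc : Coh.IsCoh (kernel (Formal.smulMod A M (a ^ c))) := isCoh_kernel _ hM hM.1
  refine ⟨c, cokernel k, cokernel.π k, g, isCoh_cokernel k hKc.1 hM, fun j => cokernel.π_desc _ _ _,
    fun j => ?_, fun j => ?_, fun j => ?_, inferInstance⟩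
  · rw [← cancel_epi (cokernel.π k), cokernel.π_desc_assoc, ← smulMod_naturality]
  · rw [← cancel_epi (cokernel.π k), cokernel.π_desc, cokernel.π_desc_assoc]
    show Formal.smulMod A M (a ^ (c + (j + 1))) = _
    rw [show c + (j + 1) = 1 + (c + j) by omega, pow_add, pow_one, smulMod_mul]
  · have w : g j ≫ qπ M (Ideal.span {a ^ (c + j)}) = 0 := by
      rw [← cancel_epi (cokernel.π k), cokernel.π_desc_assoc, comp_zero]
      exact mem_ann.1 (le_ann_qπ M _ (Ideal.subset_span rfl))
    haveI : Mono (g j) := by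
      refine (ShortComplex.exact_iff_mono_cokernel_desc (ShortComplex.mk k (f j) (hk j))).1 ?_
      exact ShortComplex.exact_of_f_is_kernel _ (KernelFork.IsLimit.ofι k (hk j)
        (fun {W} t ht => kernel.lift _ t (by
          rw [← kernel.lift_ι (f j) t ht, Category.assoc, hc j, comp_zero]))
        (fun t ht => kernel.lift_ι _ _ _)
        (fun t ht b hb => by rw [← cancel_mono k]; exact hb.trans (kernel.lift_ι _ _ _).symm))
    have hq : IsColimit (CokernelCofork.ofπ (qπ M (Ideal.span {a ^ (c + j)})) w) :=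
      CokernelCofork.IsColimit.ofπ _ w
        (fun {W} φ hφ => qDesc φ ((Ideal.span_singleton_le_iff_mem _).2 (mem_ann.2 (by
          show f j ≫ φ = 0
          rw [← cokernel.π_desc k (f j) (hk j), Category.assoc]
          erw [hφ]
          exact comp_zero))))
        (fun φ hφ => π_qDesc _ _)
        (fun φ hφ b hb => by rw [← cancel_epi (qπ M (Ideal.span {a ^ (c + j)})), π_qDesc, hb])
    exact ⟨w, { exact := ShortComplex.exact_of_g_is_cokernel (ShortComplex.mk (g j) _ w) hq
                mono_f := inferInstanceAs (Mono (g j))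
                epi_g := inferInstanceAs (Epi (qπ M _)) }⟩

end Groth.Agent.FormalFun
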