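import Groth.Agent.FormalFun.Fibres
import Groth.Agent.GeomConn.Scheme
import Mathlib.AlgebraicGeometry.Geometrically.Connected
import Mathlib.RingTheory.Localization.Integral
import Mathlib.RingTheory.Jacobson.Ring
import Mathlib.RingTheory.AdjoinRoot

/-!
# Geometrically connected fibres
-/

noncomputable section

universe u

open CategoryTheory Limits AlgebraicGeometry Opposite TopologicalSpace Groth.Agent.QCohBase
open scoped TensorProduct

namespace Groth.Agent.FormalFun

/-- Finitely many integral elements come from a finite free algebra. -/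
lemma exists_finite_free_cover {A L : Type u} [CommRing A] [Field L] [Algebra A L] :
    ∀ (n : ℕ) (a : Fin n → L), (∀ i, IsIntegral A (a i)) →
      ∃ (B : Type u) (_ : CommRing B) (_ : Algebra A B) (_ : Module.Free A B) (_ : Module.Finite A B)
        (ψ : B →ₐ[A] L), ∀ i, a i ∈ ψ.range := by
  intro n
  induction n with
  | zero => exact fun a _ => ⟨A, inferInstance, inferInstance, inferInstance, inferInstance, Algebra.ofId A L, finZeroElim⟩
  | succ n ih =>
    intro a ha
    obtain ⟨B, _, _, _, _, ψ, hψ⟩ := ih (Fin.tail a) fun i => ha i.succ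
    let q := minpoly A (a 0)
    have hq : q.Monic := minpoly.monic (ha 0)
    let B₀ := AdjoinRoot q
    haveI : Module.Free A B₀ := hq.free_adjoinRoot
    haveI : Module.Finite A B₀ := hq.finite_adjoinRoot
    let ψ₀ : B₀ →ₐ[A] L := AdjoinRoot.liftAlgHom q (Algebra.ofId A L) (a 0) (minpoly.aeval A (a 0))
    refine ⟨B₀ ⊗[A] B, inferInstance, inferInstance, inferInstance, inferInstance,
      Algebra.TensorProduct.productMap ψ₀ ψ, fun i => ?_⟩
    cases i using Fin.cases with
    | zero =>
      refine ⟨AdjoinRoot.root q ⊗ₜ 1, ?_⟩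
      show Algebra.TensorProduct.productMap ψ₀ ψ (AdjoinRoot.root q ⊗ₜ 1) = _
      rw [Algebra.TensorProduct.productMap_apply_tmul, map_one, mul_one]
      exact AdjoinRoot.liftAlgHom_root _ _ _ _
    | succ i =>
      obtain ⟨b, hb⟩ := hψ i
      refine ⟨1 ⊗ₜ b, ?_⟩
      show Algebra.TensorProduct.productMap ψ₀ ψ (1 ⊗ₜ b) = _
      rw [Algebra.TensorProduct.productMap_apply_tmul, map_one, one_mul]
      exact hb

/-- Clearing denominators in integral dependence. -/
lemma exists_integral_multiple {A κ L : Type u} [CommRing A] [Field κ] [Field L] [Algebra A κ] [Algebra κ L]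
    [Algebra A L] [IsScalarTower A κ L]
    (h : ∀ c : κ, ∃ r r' : A, algebraMap A κ r' ≠ 0 ∧ c = algebraMap A κ r / algebraMap A κ r') {x : L}
    (hx : IsIntegral κ x) : ∃ m : A, algebraMap A L m ≠ 0 ∧ IsIntegral A (algebraMap A L m * x) := by
  classical
  let P : Ideal A := RingHom.ker (algebraMap A κ)
  obtain ⟨p, hp, hpx⟩ := hx
  choose r r' hr' hc using fun i => h (p.coeff i)
  let d : A := ∏ i ∈ Finset.range p.natDegree, r' i
  have hd : algebraMap A κ d ≠ 0 := by
    rw [map_prod]; exact Finset.prod_ne_zero_iff.2 fun i _ => hr' i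
  let c : ℕ → A := fun i => r i * (∏ j ∈ (Finset.range p.natDegree).erase i, r' j) * d ^ (p.natDegree - i - 1)
  refine ⟨d, by rw [IsScalarTower.algebraMap_apply A κ L]; exact (map_ne_zero _).2 hd,
    Polynomial.X ^ p.natDegree + ∑ i ∈ Finset.range p.natDegree, Polynomial.C (c i) * Polynomial.X ^ i, ?_, ?_⟩
  · refine Polynomial.monic_X_pow_add ((Polynomial.degree_sum_le _ _).trans_lt ?_)
    rw [Finset.sup_lt_iff (WithBot.bot_lt_coe _)]
    exact fun i hi => (Polynomial.degree_C_mul_X_pow_le i _).trans_lt (WithBot.coe_lt_coe.2 (Finset.mem_range.1 hi))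
  · have hcoe : ∀ i ∈ Finset.range p.natDegree,
        algebraMap A L (c i) = algebraMap κ L (p.coeff i) * algebraMap A L d ^ (p.natDegree - i) := by
      intro i hi
      rw [IsScalarTower.algebraMap_apply A κ L, IsScalarTower.algebraMap_apply A κ L d, ← map_pow, ← map_mul]
      congr 1
      have hlt := Finset.mem_range.1 hi
      have hdd : algebraMap A κ d = algebraMap A κ (r' i) * algebraMap A κ (∏ j ∈ (Finset.range p.natDegree).erase i, r' j) := by
        rw [← map_mul, Finset.mul_prod_erase _ _ hi]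
      rw [hc i, show p.natDegree - i = p.natDegree - i - 1 + 1 by omega, pow_succ]
      simp only [c, map_mul, map_pow, Nat.add_sub_cancel]
      rw [hdd]
      field_simp [hr' i]
    have h0 : x ^ p.natDegree + ∑ i ∈ Finset.range p.natDegree, algebraMap κ L (p.coeff i) * x ^ i = 0 := by
      rw [Polynomial.eval₂_eq_sum_range, Finset.sum_range_succ, hp.coeff_natDegree, map_one, one_mul] at hpx
      rw [add_comm]
      exact hpx
    simp only [Polynomial.eval₂_add, Polynomial.eval₂_finsetSum, Polynomial.eval₂_mul, Polynomial.eval₂_C,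
      Polynomial.eval₂_X_pow, mul_pow]
    have e : ∑ i ∈ Finset.range p.natDegree, algebraMap A L (c i) * (algebraMap A L d ^ i * x ^ i) =
        algebraMap A L d ^ p.natDegree * ∑ i ∈ Finset.range p.natDegree, algebraMap κ L (p.coeff i) * x ^ i := by
      rw [Finset.mul_sum]
      refine Finset.sum_congr rfl fun i hi => ?_
      rw [hcoe i hi]
      have := Finset.mem_range.1 hi
      rw [show algebraMap A L d ^ p.natDegree = algebraMap A L d ^ (p.natDegree - i) * algebraMap A L d ^ i by
        rw [← pow_add, Nat.sub_add_cancel this.le]]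
      ring
    rw [e, ← mul_add, h0, mul_zero]

/-- Residue fields of affine schemes consist of fractions. -/
lemma residueField_fraction (Y : Scheme.{u}) [IsAffine Y] (y : Y) (ρ : Γ(Y, ⊤) ⟶ Y.residueField y)
    (hρ : Spec.map ρ = Y.fromSpecResidueField y ≫ Y.isoSpec.hom) :
    letI : Algebra Γ(Y, ⊤) (Y.residueField y) := ρ.hom.toAlgebra
    ∀ c : Y.residueField y, ∃ r r' : Γ(Y, ⊤), algebraMap Γ(Y, ⊤) (Y.residueField y) r' ≠ 0 ∧
      c = algebraMap Γ(Y, ⊤) (Y.residueField y) r / algebraMap Γ(Y, ⊤) (Y.residueField y) r' := by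
  letI : Algebra Γ(Y, ⊤) (Y.residueField y) := ρ.hom.toAlgebra
  have hρ' : ρ = Y.presheaf.germ ⊤ y trivial ≫ Y.residue y := by
    apply Spec.map_injective
    rw [hρ, Spec.map_comp, Scheme.fromSpecResidueField, Category.assoc]
    congr 1
    exact (Scheme.fromSpecStalk_toSpecΓ Y y)
  intro c
  obtain ⟨v, rfl⟩ := Ideal.Quotient.mk_surjective c
  letI := TopCat.Presheaf.algebra_section_stalk Y.presheaf (⟨y, trivial⟩ : ↥(⊤ : Y.Opens))
  haveI := (isAffineOpen_top Y).isLocalization_stalk ⟨y, trivial⟩
  obtain ⟨⟨r, r'⟩, hr⟩ := IsLocalization.surj ((isAffineOpen_top Y).primeIdealOf ⟨y, trivial⟩).asIdeal.primeCompl v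
  have hu : IsUnit (Y.presheaf.germ ⊤ y trivial (r' : Γ(Y, ⊤))) :=
    IsLocalization.map_units (M := ((isAffineOpen_top Y).primeIdealOf ⟨y, trivial⟩).asIdeal.primeCompl) _ r'
  refine ⟨r, r', ?_, ?_⟩
  · show ρ (r' : Γ(Y, ⊤)) ≠ 0
    rw [hρ']
    exact (hu.map (Y.residue y).hom).ne_zero
  · rw [eq_div_iff]
    · show Y.residue y v * ρ (r' : Γ(Y, ⊤)) = ρ r
      rw [hρ']
      exact (map_mul (Y.residue y).hom v _).symm.trans (congrArg (Y.residue y) hr)
    · show ρ (r' : Γ(Y, ⊤)) ≠ 0
      rw [hρ']
      exact (hu.map (Y.residue y).hom).ne_zero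

/-- Surjectivity on functions persists after a flat base change. -/
lemma surjective_app_baseChange {X X' Y Y' : Scheme.{u}} {f : X ⟶ Y} {g : Y' ⟶ Y} {g' : X' ⟶ X} {f' : X' ⟶ Y'}
    (H : IsPullback g' f' f g) [Flat g] [QuasiCompact f] [QuasiSeparated f] [IsAffine Y]
    (hf : Function.Surjective (f.app ⊤)) (V : Y'.Opens) (hV : IsAffineOpen V) :
    Function.Surjective (f'.app V) := by
  haveI : CompactSpace X := QuasiCompact.compactSpace_of_compactSpace f
  haveI : QuasiSeparatedSpace X := quasiSeparatedSpace_of_quasiSeparated f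
  have hUY : f' ⁻¹ᵁ V = g' ⁻¹ᵁ ⊤ ⊓ f' ⁻¹ᵁ V := by simp
  have h := isIso_pushoutSection_of_isQuasiSeparated_of_flat_right H (US := ⊤) (UT := V) (UX := ⊤)
    (by simp) (by simp) hUY (isAffineOpen_top Y) hV isCompact_univ
    (isQuasiSeparated_univ_iff.2 ‹_›)
  have hp := (isIso_pushoutSection_iff H _ _ hUY).1 h
  have hs : Function.Surjective (f.appLE ⊤ ⊤ (by simp)).hom := by
    show Function.Surjective (f.appLE ⊤ (f ⁻¹ᵁ ⊤) le_rfl).hom
    rw [Scheme.Hom.appLE_eq_app]
    exact hf
  have h2 : Function.Surjective (f'.appLE V (f' ⁻¹ᵁ V) le_rfl).hom :=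
    haveI := RingHom.isStableUnderCobaseChange_toMorphismProperty_iff.2 RingHom.surjective_isStableUnderBaseChange
    MorphismProperty.of_isPushout (P := RingHom.toMorphismProperty fun f => Function.Surjective f) hp.flip hs
  rwa [Scheme.Hom.appLE_eq_app] at h2

/-- Over a noetherian affine base the fibres stay preconnected after finite residue extensions. -/
theorem preconnectedSpace_pullback_finite {X Y : Scheme.{u}} (f : X ⟶ Y) [IsProper f] [IsAffine Y]
    [IsLocallyNoetherian Y] (hf : Function.Surjective (f.app ⊤)) {L : Type u} [Field L]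
    (t : Spec (CommRingCat.of L) ⟶ Y) (φ : Γ(Y, ⊤) →+* L)
    (ht : t = Spec.map (CommRingCat.ofHom φ) ≫ Y.isoSpec.inv)
    (hfin : letI := φ.toAlgebra; ∃ (n : ℕ) (a : Fin n → L), (∀ i, IsIntegral Γ(Y, ⊤) (a i)) ∧
      Subfield.closure (Set.range φ ∪ Set.range a) = ⊤) :
    PreconnectedSpace ↥(pullback f t) := by
  letI := φ.toAlgebra
  obtain ⟨n, a, ha, hcl⟩ := hfin
  obtain ⟨B, _, _, _, _, ψ, hψ⟩ := exists_finite_free_cover n a ha
  let g : Spec (CommRingCat.of B) ⟶ Y := Spec.map (CommRingCat.ofHom (algebraMap Γ(Y, ⊤) B)) ≫ Y.isoSpec.inv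
  let t' : Spec (CommRingCat.of L) ⟶ Spec (CommRingCat.of B) := Spec.map (CommRingCat.ofHom ψ.toRingHom)
  have hfac : t' ≫ g = t := by
    rw [ht, ← Category.assoc, ← Spec.map_comp, ← CommRingCat.ofHom_comp]
    congr 3
    ext r
    exact ψ.commutes r
  haveI : Flat g := by
    haveI : Flat (Spec.map (CommRingCat.ofHom (algebraMap Γ(Y, ⊤) B))) := by
      rw [HasRingHomProperty.Spec_iff (P := @Flat)]
      exact RingHom.flat_algebraMap_iff.2 inferInstance
    infer_instance
  haveI : IsNoetherianRing Γ(Y, ⊤) := QCohBase.isNoetherianRing_sections (isAffineOpen_top Y)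
  haveI : IsNoetherianRing B := IsNoetherianRing.of_finite Γ(Y, ⊤) B
  haveI : IsNoetherianRing (CommRingCat.of B) := ‹_›
  let f' := pullback.snd f g
  have hpre : _root_.IsPreconnected (f' ⁻¹' {t' (IsLocalRing.closedPoint L)}) :=
    isPreconnected_fibre f' (fun V hV => surjective_app_baseChange (IsPullback.of_hasPullback f g) hf V hV) _
  -- the point is dense enough to see the whole pullback
  let y' := t' (IsLocalRing.closedPoint L)
  obtain ⟨χ, hχ⟩ : ∃ χ : (Spec (CommRingCat.of B)).residueField y' ⟶ CommRingCat.of L,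
      Spec.map χ ≫ (Spec (CommRingCat.of B)).fromSpecResidueField y' = t' :=
    ⟨_, Scheme.descResidueField_stalkClosedPointTo_fromSpecResidueField L _ t'⟩
  have hχs : Function.Surjective χ := by
    obtain ⟨ψ', hψ'⟩ := Spec.map_surjective ((Spec (CommRingCat.of B)).fromSpecResidueField y')
    have e : ψ' ≫ χ = CommRingCat.ofHom ψ.toRingHom := by
      apply Spec.map_injective
      rw [Spec.map_comp, hψ', hχ]
    have hsub : Subfield.closure (Set.range φ ∪ Set.range a) ≤ χ.hom.fieldRange := by
      rw [Subfield.closure_le]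
      rintro z (⟨r, rfl⟩ | ⟨i, rfl⟩)
      · exact ⟨ψ' (algebraMap Γ(Y, ⊤) B r), (congrArg (fun w => w (algebraMap Γ(Y, ⊤) B r)) e).trans (ψ.commutes r)⟩
      · obtain ⟨b, hb⟩ := hψ i
        exact ⟨ψ' b, (congrArg (fun w => w b) e).trans hb⟩
    rw [hcl] at hsub
    exact fun z => hsub (Subfield.mem_top z)
  haveI : IsIso χ := (ConcreteCategory.isIso_iff_bijective χ).2 ⟨χ.hom.injective, hχs⟩
  have hfib : PreconnectedSpace ↥(f'.fiber y') := by
    haveI := Subtype.preconnectedSpace hpre
    exact (f'.fiberHomeo y').symm.surjective.denseRange.preconnectedSpace (f'.fiberHomeo y').symm.continuous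
  have hP : IsPullback (pullback.fst f' t' ≫ pullback.fst f g) (pullback.snd f' t') f t :=
    hfac ▸ ((IsPullback.of_hasPullback f' t').paste_horiz (IsPullback.of_hasPullback f g))
  let e₁ : f'.fiber y' ≅ pullback f' t' :=
    (asIso (pullback.map f' t' f' ((Spec (CommRingCat.of B)).fromSpecResidueField y') (𝟙 _) (Spec.map χ) (𝟙 _)
      (by simp) (by simp [hχ]))).symm
  exact (e₁ ≪≫ hP.isoPullback).hom.homeomorph.surjective.denseRange.preconnectedSpace
    (e₁ ≪≫ hP.isoPullback).hom.homeomorph.continuous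

/-- Connectedness with a rational point after one extension gives it after every extension. -/
lemma connectedSpace_of_common_extension {X Y : Scheme.{u}} (f : X ⟶ Y) {κ K L : Type u} [Field κ] [Field K]
    [Field L] (ι : Spec (CommRingCat.of κ) ⟶ Y) (φ : κ →+* K) (α : κ →+* L)
    (s : Spec (CommRingCat.of K) ⟶ Y) (tL : Spec (CommRingCat.of L) ⟶ Y)
    (hs : s = Spec.map (CommRingCat.ofHom φ) ≫ ι) (ht : tL = Spec.map (CommRingCat.ofHom α) ≫ ι)
    (sec : Spec (CommRingCat.of L) ⟶ pullback f tL) (hsec : sec ≫ pullback.snd f tL = 𝟙 _)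
    [ConnectedSpace ↥(pullback f tL)] : ConnectedSpace ↥(pullback f s) := by
  letI algK : Algebra κ K := φ.toAlgebra
  letI algL : Algebra κ L := α.toAlgebra
  haveI : Nontrivial (K ⊗[κ] L) :=
    (Algebra.TensorProduct.includeLeft_injective (R := κ) (S := κ) (A := K) (B := L)
      (algebraMap κ L).injective).nontrivial
  obtain ⟨P, hP⟩ := Ideal.exists_maximal (K ⊗[κ] L)
  letI := Ideal.Quotient.field P
  let K' := (K ⊗[κ] L) ⧸ P
  let iK : K →+* K' := (Ideal.Quotient.mk P).comp Algebra.TensorProduct.includeLeftRingHom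
  let iL : L →+* K' := (Ideal.Quotient.mk P).comp
    (Algebra.TensorProduct.includeRight (R := κ) (A := K) (B := L)).toRingHom
  letI : Algebra L K' := iL.toAlgebra
  have hcomp : iK.comp φ = iL.comp α := by
    ext c
    show Ideal.Quotient.mk P ((algebraMap κ K c) ⊗ₜ 1) = Ideal.Quotient.mk P (1 ⊗ₜ (algebraMap κ L c))
    rw [Algebra.algebraMap_eq_smul_one, Algebra.algebraMap_eq_smul_one, TensorProduct.smul_tmul]
  haveI hc : ConnectedSpace ↥(GeomConn.bcTo K' (pullback.snd f tL)) :=
    GeomConn.connectedSpace_bcTo (pullback.snd f tL) sec hsec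
  let d := Spec.map (CommRingCat.ofHom (algebraMap L K'))
  let b := Spec.map (CommRingCat.ofHom iK)
  have hdb : d ≫ tL = b ≫ s := by
    rw [hs, ht, ← Category.assoc, ← Category.assoc, ← Spec.map_comp, ← Spec.map_comp,
      ← CommRingCat.ofHom_comp, ← CommRingCat.ofHom_comp, hcomp]
  have hbig : IsPullback (pullback.fst (pullback.snd f tL) d ≫ pullback.fst f tL)
      (pullback.snd (pullback.snd f tL) d) f (b ≫ s) :=
    hdb ▸ ((IsPullback.of_hasPullback (pullback.snd f tL) d).paste_horiz (IsPullback.of_hasPullback f tL))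
  let π : pullback (pullback.snd f tL) d ⟶ pullback f s :=
    pullback.lift (pullback.fst _ _ ≫ pullback.fst f tL) (pullback.snd _ _ ≫ b) (by
      rw [hbig.w, Category.assoc])
  have hπ : IsPullback π (pullback.snd (pullback.snd f tL) d) (pullback.snd f s) b :=
    IsPullback.of_right (by rw [pullback.lift_fst]; exact hbig) (pullback.lift_snd _ _ _)
      (IsPullback.of_hasPullback f s)
  have hsurj : Function.Surjective π := fun w => by
    obtain ⟨v, hv, -⟩ := Scheme.exists_preimage_of_isPullback hπ w (IsLocalRing.closedPoint K')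
      (Subsingleton.elim (α := PrimeSpectrum K) _ _)
    exact ⟨v, hv⟩
  haveI : ConnectedSpace ↥(pullback (pullback.snd f tL) d) := hc
  exact hsurj.connectedSpace π.continuous

/-- A proper map without new functions over a noetherian affine base is geometrically connected. -/
theorem connectedSpace_pullback_of_surjective_app {X Y : Scheme.{u}} (f : X ⟶ Y) [IsProper f] [IsAffine Y]
    [IsLocallyNoetherian Y] (hf : Function.Surjective (f.app ⊤)) [Surjective f] {K : Type u} [Field K]
    (s : Spec (CommRingCat.of K) ⟶ Y) : ConnectedSpace ↥(pullback f s) := by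
  let y := s (IsLocalRing.closedPoint K)
  obtain ⟨φ, hφ⟩ : ∃ φ : Y.residueField y ⟶ CommRingCat.of K, Spec.map φ ≫ Y.fromSpecResidueField y = s :=
    ⟨_, Scheme.descResidueField_stalkClosedPointTo_fromSpecResidueField K _ s⟩
  let p := f.fiberToSpecResidueField y
  haveI : IsProper p := MorphismProperty.pullback_snd _ _ inferInstance
  haveI : Nonempty ↥(f.fiber y) := ⟨(f.fiberHomeo y).symm ⟨(f.surjective y).choose, (f.surjective y).choose_spec⟩⟩
  haveI : CompactSpace ↥(f.fiber y) := QuasiCompact.compactSpace_of_compactSpace p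
  obtain ⟨z, -, hz⟩ := isClosed_univ.exists_closed_singleton (Set.univ_nonempty (α := ↥(f.fiber y)))
  haveI : IsClosedImmersion ((f.fiber y).fromSpecResidueField z) :=
    isClosed_singleton_iff_isClosedImmersion.1 hz
  let L := (f.fiber y).residueField z
  obtain ⟨α, hα⟩ := Spec.map_surjective ((f.fiber y).fromSpecResidueField z ≫ p)
  letI algL : Algebra (Y.residueField y) L := α.hom.toAlgebra
  haveI : Algebra.FiniteType (Y.residueField y) L := by
    have : LocallyOfFiniteType (Spec.map α) := hα ▸ inferInstance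
    exact (HasRingHomProperty.Spec_iff (P := @LocallyOfFiniteType)).1 this
  haveI : Module.Finite (Y.residueField y) L := finite_of_finite_type_of_isJacobsonRing _ _
  -- connectedness after the extension to `L`
  let tL : Spec L ⟶ Y := Spec.map α ≫ Y.fromSpecResidueField y
  obtain ⟨ρ, hρ⟩ := Spec.map_surjective (Y.fromSpecResidueField y ≫ Y.isoSpec.hom)
  let φL : Γ(Y, ⊤) →+* L := (ρ ≫ α).hom
  have htL : tL = Spec.map (CommRingCat.ofHom φL) ≫ Y.isoSpec.inv := by
    show tL = Spec.map (ρ ≫ α) ≫ _
    rw [Spec.map_comp, hρ, Category.assoc, Category.assoc, Iso.hom_inv_id, Category.comp_id]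
  have hfin : letI := φL.toAlgebra; ∃ (n : ℕ) (a : Fin n → L), (∀ i, IsIntegral Γ(Y, ⊤) (a i)) ∧
      Subfield.closure (Set.range φL ∪ Set.range a) = ⊤ := by
    letI := φL.toAlgebra
    letI : Algebra Γ(Y, ⊤) (Y.residueField y) := ρ.hom.toAlgebra
    haveI : IsScalarTower Γ(Y, ⊤) (Y.residueField y) L := IsScalarTower.of_algebraMap_eq fun r => rfl
    have hA : IsAffineOpen (⊤ : Y.Opens) := isAffineOpen_top Y
    have a₀ := residueField_fraction Y y ρ hρ
    obtain ⟨n, e, he⟩ := Submodule.fg_iff_exists_fin_generating_family.1 (Module.Finite.fg_top (R := Y.residueField y) (M := L))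
    choose m hm0 hm using fun i => exists_integral_multiple a₀ (IsIntegral.of_finite (Y.residueField y) (e i))
    refine ⟨n, fun i => φL (m i) * e i, hm, ?_⟩
    rw [eq_top_iff]
    intro l hl0
    clear hl0
    set S := Subfield.closure (Set.range φL ∪ Set.range fun i => φL (m i) * e i)
    have hbase : ∀ c : Y.residueField y, algebraMap (Y.residueField y) L c ∈ S := fun c => by
      obtain ⟨r, r', hr', hc⟩ := a₀ c
      rw [hc, map_div₀]
      exact div_mem (Subfield.subset_closure (Or.inl ⟨r, rfl⟩)) (Subfield.subset_closure (Or.inl ⟨r', rfl⟩))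
    have he' : ∀ i, e i ∈ S := fun i => by
      have h1 : φL (m i) * e i ∈ S := Subfield.subset_closure (Or.inr ⟨i, rfl⟩)
      have h2 : φL (m i) ∈ S := Subfield.subset_closure (Or.inl ⟨m i, rfl⟩)
      have h3 := div_mem h1 h2
      rwa [mul_div_cancel_left₀ _ (show φL (m i) ≠ 0 from hm0 i)] at h3
    have hl : l ∈ Submodule.span (Y.residueField y) (Set.range e) := he ▸ Submodule.mem_top
    induction hl using Submodule.span_induction with
    | mem x hx => obtain ⟨i, rfl⟩ := hx; exact he' i
    | zero => exact zero_mem _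
    | add x x' _ _ h h' => exact add_mem h h'
    | smul c x _ h => rw [Algebra.smul_def]; exact mul_mem (hbase c) h
  haveI hpre := preconnectedSpace_pullback_finite f hf (L := L) tL φL htL hfin
  let sec : Spec L ⟶ pullback f tL := pullback.lift ((f.fiber y).fromSpecResidueField z ≫ f.fiberι y) (𝟙 _) (by
    rw [Category.assoc, Category.id_comp]
    show _ = Spec.map α ≫ Y.fromSpecResidueField y
    rw [hα, Category.assoc]
    congr 1
    exact pullback.condition)
  haveI : ConnectedSpace ↥(pullback f tL) :=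
    { toNonempty := ⟨sec (IsLocalRing.closedPoint L)⟩ }
  exact connectedSpace_of_common_extension f (Y.fromSpecResidueField y) φ.hom α.hom s tL hφ.symm rfl sec
    (pullback.lift_snd _ _ _)

/-- A proper map with `f_* O = O` is geometrically connected. -/
theorem geometricallyConnected_of_isIso_app {X Y : Scheme.{u}} (f : X ⟶ Y) [IsProper f] [IsLocallyNoetherian Y]
    (hf : ∀ V : Y.Opens, IsIso (f.app V)) : GeometricallyConnected f := by
  haveI : Surjective f := ⟨fun y => by
    haveI := connectedSpace_fiber f hf y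
    exact ⟨_, ((f.fiberHomeo y) (Classical.arbitrary _)).2⟩⟩
  refine ⟨geometrically_iff_of_isClosedUnderIsomorphisms.mpr fun K _ s => ?_⟩
  obtain ⟨(U : Y.Opens), hU, hsU, -⟩ :=
    Opens.isBasis_iff_nbhd.1 Y.isBasis_affineOpens (Opens.mem_top (s (IsLocalRing.closedPoint K)))
  haveI : IsAffine U := hU
  have hr : Set.range s ⊆ Set.range U.ι := by
    rintro _ ⟨w, rfl⟩
    rw [Subsingleton.elim (α := PrimeSpectrum K) w (IsLocalRing.closedPoint K)]
    exact ⟨⟨_, hsU⟩, rfl⟩
  let s' := IsOpenImmersion.lift U.ι s hr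
  haveI : Surjective (f ∣_ U) := IsZariskiLocalAtTarget.restrict ‹Surjective f› U
  haveI := connectedSpace_pullback_of_surjective_app (f ∣_ U) (surjective_morphismRestrict_app f U ⊤
    (haveI := hf (U.ι ''ᵁ ⊤); (ConcreteCategory.bijective_of_isIso (f.app (U.ι ''ᵁ ⊤))).2)) s'
  have hP := (IsPullback.of_hasPullback (f ∣_ U) s').paste_horiz (isPullback_morphismRestrict f U).flip
  rw [IsOpenImmersion.lift_fac] at hP
  exact hP.isoPullback.hom.homeomorph.surjective.connectedSpace hP.isoPullback.hom.homeomorph.continuous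

end Groth.Agent.FormalFun
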