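import Groth.Agent.SteinLead.Finite
import Groth.Agent.S0036
import Groth.Agent.FormalFun.GeomFibres
import Mathlib.AlgebraicGeometry.Morphisms.QuasiFinite
import Groth.Prelude.Def_ega3

/-!
# Stein factorisation
-/

universe u

open CategoryTheory Limits AlgebraicGeometry TopologicalSpace Opposite

namespace Groth.Agent.FormalFun

/-- `O_Y → f_* O_X` is bijective everywhere if it is so on an affine cover -/
theorem isIso_app_of_cover {X Y : Scheme.{u}} (f : X ⟶ Y) [IsProper f] [IsLocallyNoetherian Y]
    {ι : Type*} (W : ι → Y.Opens) (hW : ∀ i, IsAffineOpen (W i)) (hcov : ∀ y, ∃ i, y ∈ W i)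
    (h : ∀ i, Function.Bijective (f.app (W i))) : ∀ V : Y.Opens, IsIso (f.app V) := by
  intro V
  let φ := Groth.Agent.CohFinite.unitMap f
  have hG : Coh.IsQCoh ((Coh.push f).obj (Coh.structureModule X)) := by
    haveI := TensorMod.isQCoh_structureModule X
    exact Groth.Agent.QCohBase.isQuasicoherent_pushforward _ f
  haveI : Mono φ := by
    have h := Groth.Agent.Devissage.hom_eq_zero_of_sections (Limits.kernel.ι φ)
      (Groth.Agent.QCohBase.isQuasicoherent_kernel φ (Groth.Agent.Devissage.isCoh_structureModule Y).1 hG)
      (Groth.Agent.Devissage.isCoh_structureModule Y).1 W hW hcov fun y s =>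
        (h y).1 ((congrArg (fun ψ : _ ⟶ (Coh.push f).obj (Coh.structureModule X) => ψ.app (W y) s)
          (Limits.kernel.condition φ)).trans (map_zero (f.app (W y)).hom).symm)
    exact Preadditive.mono_of_kernel_zero h
  haveI := Groth.Agent.QCohBase.isIso_of_app_surjective φ (Groth.Agent.Devissage.isCoh_structureModule Y).1
    hG W hW hcov fun y => (h y).2
  have := (Scheme.Modules.Hom.isIso_iff_isIso_app (φ := φ)).1 inferInstance V
  rw [ConcreteCategory.isIso_iff_bijective] at this ⊢
  exact this

variable {X Y : Scheme.{u}} (f : X ⟶ Y) [IsProper f] [IsLocallyNoetherian Y]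

lemma isProper_toNormalization : IsProper f.toNormalization := by
  haveI : IsProper (f.toNormalization ≫ f.fromNormalization) := by
    rw [Scheme.Hom.toNormalization_fromNormalization]; infer_instance
  exact IsProper.of_comp f.toNormalization f.fromNormalization

lemma finite_app {U : Y.Opens} (hU : IsAffineOpen U) : (f.app U).hom.Finite := by
  letI := (f.app U).hom.toAlgebra
  have hG := Groth.Agent.QCohBase.isCoh_of_epi
    ((Coh.push f).rightDerivedZeroIsoSelf.app (Coh.structureModule X)).hom
    (Groth.Agent.S0036.result f _ (by
      haveI : IsLocallyNoetherian X := LocallyOfFiniteType.isLocallyNoetherian f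
      exact Groth.Agent.Devissage.isCoh_structureModule X) 0)
    (by haveI := TensorMod.isQCoh_structureModule X
        exact Groth.Agent.QCohBase.isQuasicoherent_pushforward _ f)
  haveI : Module.Finite Γ(Y, U) Γ(X, f ⁻¹ᵁ U) := ((Groth.Agent.QCohBase.isCoh_iff _).1 hG).2 U hU
  exact RingHom.finite_algebraMap.2 inferInstance

/-- In the Stein factorisation `O → f'_* O` is an isomorphism. -/
theorem isIso_app_toNormalization (V : f.normalization.Opens) : IsIso (f.toNormalization.app V) := by
  haveI := SteinLead.isFinite_fromNormalization f
  haveI : IsLocallyNoetherian f.normalization := LocallyOfFiniteType.isLocallyNoetherian f.fromNormalization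
  haveI := isProper_toNormalization f
  refine isIso_app_of_cover f.toNormalization (fun U : Y.affineOpens => f.fromNormalization ⁻¹ᵁ U.1)
    (fun U => U.2.preimage _) (fun p => ?_) (fun U => ?_) V
  · obtain ⟨_, ⟨U, hU, rfl⟩, hpU, -⟩ := Y.isBasis_affineOpens.exists_subset_of_mem_open
      (Set.mem_univ (f.fromNormalization p)) isOpen_univ
    exact ⟨⟨U, hU⟩, hpU⟩
  · letI := (f.app U.1).hom.toAlgebra
    haveI : Module.Finite Γ(Y, U.1) Γ(X, f ⁻¹ᵁ U.1) := RingHom.finite_algebraMap.1 (finite_app f U.2)
    rw [Scheme.Hom.toNormalization_app_preimage f U]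
    have hval : Function.Bijective (CommRingCat.ofHom
        (integralClosure Γ(Y, U.1) Γ(X, f ⁻¹ᵁ U.1)).val.toRingHom).hom :=
      ⟨Subtype.val_injective, fun x => ⟨⟨x, IsIntegral.of_finite Γ(Y, U.1) x⟩, rfl⟩⟩
    exact (ConcreteCategory.bijective_of_isIso (X.presheaf.map _)).comp
      (hval.comp (ConcreteCategory.bijective_of_isIso (f.normalizationObjIso U.2).hom))

lemma surjective_toNormalization : Surjective f.toNormalization := by
  haveI := isProper_toNormalization f
  refine ⟨fun p => ?_⟩
  have h := f.toNormalization.denseRange.closure_range
  rw [f.toNormalization.isClosedMap.isClosed_range.closure_eq] at h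
  exact (Set.eq_univ_iff_forall.1 h) p

/-- Stein factorisation: the components of the fibres are the points of the finite part. -/
theorem stein_fibres (y : Y) :
    Finite ↥(f.fromNormalization.fiber y) ∧
    Function.Surjective (CohIII.fiberMapOver f.toNormalization f f.fromNormalization
        f.toNormalization_fromNormalization y).base ∧
    ∀ x x' : ↥(f.fiber y),
      (CohIII.fiberMapOver f.toNormalization f f.fromNormalization f.toNormalization_fromNormalization y).base x =
        (CohIII.fiberMapOver f.toNormalization f f.fromNormalization f.toNormalization_fromNormalization y).base x' ↔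
      connectedComponent x = connectedComponent x' := by
  haveI := SteinLead.isFinite_fromNormalization f
  haveI : IsLocallyNoetherian f.normalization := LocallyOfFiniteType.isLocallyNoetherian f.fromNormalization
  haveI := isProper_toNormalization f
  haveI hfin : Finite ↥(f.fromNormalization.fiber y) := by
    haveI : Finite ↥(f.fromNormalization ⁻¹' {y}) := (f.fromNormalization.finite_preimage_singleton y).to_subtype
    exact Finite.of_equiv _ (f.fromNormalization.fiberHomeo y).toEquiv.symm
  haveI : DiscreteTopology ↥(f.fromNormalization.fiber y) :=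
    (IsLocallyArtinian.iff_isLocallyNoetherian_and_discreteTopology.1
      (inferInstance : IsLocallyArtinian (f.fromNormalization.fiber y))).2
  let m := CohIII.fiberMapOver f.toNormalization f f.fromNormalization f.toNormalization_fromNormalization y
  have hm : ∀ x, f.fromNormalization.fiberι y (m.base x) = f.toNormalization (f.fiberι y x) := fun x => by
    rw [← Scheme.Hom.comp_apply, ← Scheme.Hom.comp_apply]
    have e : m ≫ f.fromNormalization.fiberι y = f.fiberι y ≫ f.toNormalization := by
      simp only [m, CohIII.fiberMapOver, Scheme.Hom.fiberι]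
      exact pullback.lift_fst _ _ _
    rw [e]
  have hinjι : Function.Injective (f.fromNormalization.fiberι y) :=
    (f.fromNormalization.fiberι y).isEmbedding.injective
  refine ⟨hfin, fun p => ?_, fun x x' => ⟨fun h => ?_, fun h => ?_⟩⟩
  · obtain ⟨x, hx⟩ := (surjective_toNormalization f).surj (f.fromNormalization.fiberι y p)
    have hxy : f x = y := by
      conv_lhs => rw [← f.toNormalization_fromNormalization]
      rw [Scheme.Hom.comp_apply, hx]
      exact ((f.fromNormalization.fiberHomeo y) p).2
    refine ⟨(f.fiberHomeo y).symm ⟨x, hxy⟩, hinjι ?_⟩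
    rw [hm, Scheme.Hom.fiberι_fiberHomeo_symm, hx]
  · have key : _root_.IsPreconnected (m.base ⁻¹' {m.base x}) := by
      rw [(f.fiberι y).isEmbedding.toIsInducing.isPreconnected_image.symm]
      have he : f.fiberι y '' (m.base ⁻¹' {m.base x}) =
          f.toNormalization ⁻¹' {f.fromNormalization.fiberι y (m.base x)} := by
        ext z
        constructor
        · rintro ⟨w, hw, rfl⟩
          show f.toNormalization (f.fiberι y w) = _
          rw [← hm, show m.base w = m.base x from hw]
        · intro hz
          have hzy : f z = y := by
            conv_lhs => rw [← f.toNormalization_fromNormalization]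
            rw [Scheme.Hom.comp_apply, show f.toNormalization z = _ from hz]
            exact ((f.fromNormalization.fiberHomeo y) (m.base x)).2
          refine ⟨(f.fiberHomeo y).symm ⟨z, hzy⟩, hinjι ?_, Scheme.Hom.fiberι_fiberHomeo_symm _ _ _⟩
          show f.fromNormalization.fiberι y (m.base _) = _
          rw [hm, Scheme.Hom.fiberι_fiberHomeo_symm]
          exact hz
      rw [he]
      haveI := connectedSpace_fiber f.toNormalization (isIso_app_toNormalization f)
        (f.fromNormalization.fiberι y (m.base x))
      rw [← f.toNormalization.range_fiberι]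
      exact isPreconnected_range (f.toNormalization.fiberι _).continuous
    exact connectedComponent_eq (key.subset_connectedComponent (show x ∈ m.base ⁻¹' {m.base x} from rfl) h.symm)
  · exact (isPreconnected_connectedComponent (x := x)).constant m.continuous.continuousOn
      mem_connectedComponent (h.symm ▸ mem_connectedComponent)

end Groth.Agent.FormalFun
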