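import Groth.Agent.CohFinite.Linear
import Groth.Agent.QCohBase.CohProps
import Groth.Agent.QCohBase.SupportExact

/-!
# Linear maps on cohomology: complements
-/

noncomputable section

universe u

open CategoryTheory Limits AlgebraicGeometry Opposite TopologicalSpace Groth.Agent.QCohBase
open Groth.Agent.CohFinite

namespace Groth.Agent.FormalFun

variable {A : Type u} [CommRing A] {X : Scheme.{u}} [X.Over (Spec (CommRingCat.of A))]
  {M : X.Modules} {p : ℕ}

variable (A) in
/-- All coherent modules supported in `T` have finite cohomology. -/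
def FiniteOn (T : Set X) : Prop :=
  ∀ N : X.Modules, Coh.IsCoh N → CohB1.support N ⊆ T → ∀ q, Module.Finite A (Coh.HH X N q)

lemma hhMap_id (v : Coh.HH X M p) : hhMap A (𝟙 M) p v = v :=
  (congrArg (fun g => CategoryTheory.Sheaf.H.map g p v) ((modAb X).map_id M)).trans
    (CategoryTheory.Sheaf.H.map_id_apply v)

lemma hhDelta_naturality {T T' : ShortComplex X.Modules} (hT : T.ShortExact) (hT' : T'.ShortExact)
    (φ : T ⟶ T') (n : ℕ) (x : Coh.HH X T.X₃ n) :
    hhDelta A hT' n (hhMap A φ.τ₃ n x) = hhMap A φ.τ₁ (n + 1) (hhDelta A hT n x) := by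
  have h1 : (T.map (modAb X)).ShortExact := toAb_shortExact hT
  have h2 : (T'.map (modAb X)).ShortExact := toAb_shortExact hT'
  let f := (modAb X).mapShortComplex.map φ
  show Abelian.Ext.comp (Abelian.Ext.comp x (Abelian.Ext.mk₀ f.τ₃) (add_zero n)) h2.extClass rfl =
    Abelian.Ext.comp (Abelian.Ext.comp x h1.extClass rfl) (Abelian.Ext.mk₀ f.τ₁) (add_zero (n + 1))
  rw [Abelian.Ext.comp_assoc _ _ _ _ _ (by omega),
    Abelian.Ext.comp_assoc _ _ _ _ (add_zero 1) (by omega)]
  congr 1
  exact (ShortComplex.ShortExact.extClass_naturality h1 h2 f).symm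

/-- A quotient of a coherent module has smaller support. -/
lemma support_subset_of_epi [IsLocallyNoetherian X] {N : X.Modules} (φ : M ⟶ N) [Epi φ]
    (hM : Coh.IsCoh M) (hN : N.IsQuasicoherent) : CohB1.support N ⊆ CohB1.support M := by
  let S := ShortComplex.mk (kernel.ι φ) φ (kernel.condition φ)
  have hS : S.ShortExact :=
    { exact := ShortComplex.exact_of_f_is_kernel _ (kernelIsKernel φ)
      mono_f := inferInstanceAs (Mono (kernel.ι φ))
      epi_g := inferInstanceAs (Epi φ) }
  exact Set.subset_union_right.trans_eq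
    (support_of_shortExact hS (isQuasicoherent_kernel φ hM.1 hN) hM.1 hN).symm

omit [X.Over (Spec (CommRingCat.of A))] in
lemma hh_eq_zero_of_isZero {N : X.Modules} (h : IsZero N) (v : Coh.HH X N p) : v = 0 := by
  have hz : IsZero (Coh.toAb N) := Functor.map_isZero (modAb X) h
  have : v.comp (Abelian.Ext.mk₀ (𝟙 (Coh.toAb N))) (add_zero p) = v := Abelian.Ext.comp_mk₀_id v
  rw [← this, hz.eq_of_src (𝟙 _) 0, Abelian.Ext.mk₀_zero, Abelian.Ext.comp_zero]

end Groth.Agent.FormalFun
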