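import Groth.Agent.FormalFun.Quot
import Groth.Agent.FormalFun.Basic
import Mathlib.RingTheory.Filtration
import Mathlib.RingTheory.AdicCompletion.Basic

/-!
# Cohomology modulo powers of an ideal
-/

noncomputable section

universe u

open CategoryTheory Limits AlgebraicGeometry Opposite TopologicalSpace Groth.Agent.QCohBase
open Groth.Agent.CohFinite

namespace Groth.Agent.FormalFun

variable {A : Type u} [CommRing A] {X : Scheme.{u}} [X.Over (Spec (CommRingCat.of A))]

/-- The kernels of the reductions are adically small. -/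
def SmallKernels (I : Ideal A) (M : X.Modules) (p : ℕ) : Prop :=
  ∀ n, ∃ m, ∀ x : Coh.HH X M p, hhMap A (qπ M (I ^ m)) p x = 0 →
    x ∈ (I ^ n • ⊤ : Submodule A (Coh.HH X M p))

/-- The images of the reductions stabilise. -/
def StableImages (I : Ideal A) (M : X.Modules) (p : ℕ) : Prop :=
  ∀ n, ∃ m, ∃ h : n ≤ m, ∀ y, ∃ x : Coh.HH X M p,
    hhMap A (qπ M (I ^ n)) p x = hhMap A (qTrans M (Ideal.pow_le_pow_right (I := I) h)) p y

variable {M : X.Modules} {p : ℕ}

lemma hhTrans_trans {J J' J'' : Ideal A} (h : J ≤ J') (h' : J' ≤ J'') (x : Coh.HH X (Q M J) p) :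
    hhMap A (qTrans M h') p (hhMap A (qTrans M h) p x) = hhMap A (qTrans M (h.trans h')) p x := by
  rw [← hhMap_comp, qTrans_trans]

lemma hhπ_trans {J J' : Ideal A} (h : J ≤ J') (x : Coh.HH X M p) :
    hhMap A (qTrans M h) p (hhMap A (qπ M J) p x) = hhMap A (qπ M J') p x := by
  rw [← hhMap_comp, π_qTrans]

lemma smallKernels_bot (M : X.Modules) (p : ℕ) : SmallKernels (⊥ : Ideal A) M p := fun n => by
  refine ⟨1, fun x hx => ?_⟩
  rw [pow_one] at hx
  haveI := isIso_qπ_bot (A := A) M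
  rw [show x = 0 from (hhMap_id (A := A) x).symm.trans (by
    rw [← IsIso.hom_inv_id (qπ M (⊥ : Ideal A)), hhMap_comp, hx, map_zero])]
  exact zero_mem _

lemma stableImages_bot (M : X.Modules) (p : ℕ) : StableImages (⊥ : Ideal A) M p := fun n => by
  refine ⟨n + 1, n.le_succ, fun y => ?_⟩
  haveI : IsIso (qπ M ((⊥ : Ideal A) ^ (n + 1))) := by
    rw [Ideal.bot_pow (by omega)]
    exact isIso_qπ_bot M
  refine ⟨hhMap A (inv (qπ M ((⊥ : Ideal A) ^ (n + 1)))) p y, ?_⟩
  rw [← hhMap_comp]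
  refine congrArg (fun g => hhMap A g p y) ?_
  rw [← cancel_epi (qπ M ((⊥ : Ideal A) ^ (n + 1))), π_qTrans, IsIso.hom_inv_id_assoc]

variable [IsNoetherianRing A] [IsLocallyNoetherian X] [CompactSpace X]

/-- Principal ideals. -/
theorem principal (a : A) (hM : Coh.IsCoh M) (hfin : FiniteOn A (CohB1.support M)) :
    SmallKernels (Ideal.span {a}) M p ∧ StableImages (Ideal.span {a}) M p := by
  obtain ⟨c, N, π, g, hN, hπg, hgπ, hgs, hseq, hepi⟩ := exists_principal_seq hM a
  choose w hT using hseq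
  haveI := hepi
  haveI : Module.Finite A (Coh.HH X N (p + 1)) :=
    hfin N hN (support_subset_of_epi π hM hN.1) (p + 1)
  refine ⟨fun n => ⟨c + n, fun x hx => ?_⟩, fun n => ?_⟩
  · rw [Ideal.span_singleton_pow] at hx
    obtain ⟨z, rfl⟩ := (hhMap_range_eq_ker (hT n) p).ge (LinearMap.mem_ker.2 hx)
    have hgz : ∀ j z, hhMap A (g j) p z = a ^ j • hhMap A (g 0) p z := by
      intro j z
      induction j with
      | zero => rw [pow_zero, one_smul]
      | succ j ih => rw [hgs, hhMap_comp, ih, hhMap_smulMod, smul_smul, pow_succ']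
    rw [hgz]
    exact Submodule.smul_mem_smul (Ideal.pow_mem_pow (Ideal.mem_span_singleton_self a) n) trivial
  let φ : ∀ j, ShortComplex.mk (g (j + 1)) _ (w (j + 1)) ⟶ ShortComplex.mk (g j) _ (w j) := fun j =>
    ShortComplex.homMk (Formal.smulMod A N a) (𝟙 M) (qTrans M (Ideal.span_singleton_le_span_singleton.2
        (pow_dvd_pow a (Nat.add_le_add_left j.le_succ c))))
      (by show Formal.smulMod A N a ≫ g j = g (j + 1) ≫ 𝟙 M
          rw [hgs, Category.comp_id, smulMod_naturality])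
      (by show 𝟙 M ≫ qπ M _ = qπ M _ ≫ qTrans M _
          rw [Category.id_comp, π_qTrans])
  let K : ℕ →o Submodule A (Coh.HH X N (p + 1)) :=
    ⟨fun j => LinearMap.ker (LinearMap.lsmul A _ (a ^ j)), fun i j hij v hv => by
      obtain ⟨d, rfl⟩ := Nat.exists_eq_add_of_le hij
      rw [LinearMap.mem_ker, LinearMap.lsmul_apply] at hv ⊢
      rw [Nat.add_comm i d, pow_add, mul_smul, hv, smul_zero]⟩
  obtain ⟨e, he⟩ := monotone_stabilizes_iff_noetherian.2
    (isNoetherian_of_isNoetherianRing_of_finite A (Coh.HH X N (p + 1))) K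
  refine ⟨c + (n + e), by omega, ?_⟩
  -- the connecting images of deep classes vanish
  have hle : ∀ j i, Ideal.span {a ^ (c + (j + i))} ≤ Ideal.span {a ^ (c + j)} := fun j i =>
    Ideal.span_singleton_le_span_singleton.2 (pow_dvd_pow a (by omega))
  have hδ : ∀ i j y, hhDelta A (hT j) p (hhMap A (qTrans M (hle j i)) p y) =
      a ^ i • hhDelta A (hT (j + i)) p y := by
    intro i
    induction i with
    | zero =>
      intro j y
      rw [pow_zero, one_smul]
      refine congrArg _ ?_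
      show hhMap A (qTrans M (le_refl _)) p y = y
      rw [qTrans_refl, hhMap_id]
    | succ i ih =>
      intro j y
      have h1 := hhDelta_naturality (A := A) (hT (j + i + 1)) (hT (j + i)) (φ (j + i)) p y
      rw [pow_succ, mul_smul]
      show _ = a ^ i • (a • hhDelta A (hT (j + i + 1)) p y)
      refine Eq.trans ?_ (congrArg (fun v => a ^ i • v) h1)
      refine Eq.trans (congrArg _ ?_) (ih j _)
      exact (hhTrans_trans (Ideal.span_singleton_le_span_singleton.2
        (pow_dvd_pow a (Nat.add_le_add_left (j + i).le_succ c))) (hle j i) y).symm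
  intro y₀
  have heq : Ideal.span {a} ^ (c + (n + e)) ≤ Ideal.span {a ^ (c + (n + e))} :=
    (Ideal.span_singleton_pow a _).le
  obtain ⟨y, hy⟩ : ∃ y, hhMap A (qTrans M heq) p y₀ = y := ⟨_, rfl⟩
  have htors : a ^ (c + (n + e)) • hhDelta A (hT (n + e)) p y = 0 := by
    rw [← hhMap_smulMod, ← hgπ (n + e), hhMap_comp,
      LinearMap.mem_ker.1 ((hhDelta_range_eq_ker (hT (n + e)) p).le ⟨y, rfl⟩), map_zero]
  have he' : a ^ e • hhDelta A (hT (n + e)) p y = 0 :=
    ((he (max e (c + (n + e))) (le_max_left _ _)).ge (K.monotone (le_max_right e (c + (n + e))) htors) :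
      hhDelta A (hT (n + e)) p y ∈ K e)
  obtain ⟨x, hx⟩ := (hhDelta_ker_eq_range (A := A) (hT n) p).ge
    (LinearMap.mem_ker.2 ((hδ e n y).trans he'))
  refine ⟨x, ?_⟩
  have hcn : Ideal.span {a ^ (c + n)} ≤ Ideal.span {a} ^ n := by
    rw [Ideal.span_singleton_pow]
    exact Ideal.span_singleton_le_span_singleton.2 (pow_dvd_pow a (by omega))
  rw [← hhπ_trans hcn]
  refine (congrArg (fun v => hhMap A (qTrans M hcn) p v) hx).trans ?_
  rw [← hy]
  exact (congrArg (fun v => hhMap A (qTrans M hcn) p v) (hhTrans_trans heq (hle n e) y₀)).trans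
    (hhTrans_trans (heq.trans (hle n e)) hcn y₀)

/-- Adding a generator. -/
theorem step (a : A) (J : Ideal A) (hM : Coh.IsCoh M) (hfin : FiniteOn A (CohB1.support M))
    (hJ : ∀ M' : X.Modules, Coh.IsCoh M' → CohB1.support M' ⊆ CohB1.support M →
      SmallKernels J M' p ∧ StableImages J M' p) :
    SmallKernels (Ideal.span {a} ⊔ J) M p ∧ StableImages (Ideal.span {a} ⊔ J) M p := by
  obtain ⟨h1, h2⟩ := principal (p := p) a hM hfin
  have hQ : ∀ m, SmallKernels J (Q M (Ideal.span {a} ^ m)) p ∧ StableImages J (Q M (Ideal.span {a} ^ m)) p :=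
    fun m => hJ _ (isCoh_Q hM (IsNoetherian.noetherian _))
      (support_subset_of_epi (qπ M _) hM (isCoh_Q hM (IsNoetherian.noetherian _)).1)
  have hle : ∀ i j, (Ideal.span {a} ⊔ J) ^ (i + j) ≤ Ideal.span {a} ^ i ⊔ J ^ j :=
    fun i j => Ideal.sup_pow_add_le_pow_sup_pow
  refine ⟨fun n => ?_, fun n => ?_⟩
  · obtain ⟨m₁, hm₁⟩ := h1 n
    have hMc := isCoh_Q (A := A) hM (IsNoetherian.noetherian (Ideal.span {a} ^ m₁))
    haveI : Module.Finite A (Coh.HH X (Q M (Ideal.span {a} ^ m₁)) p) :=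
      hfin _ hMc (support_subset_of_epi (qπ M _) hM hMc.1) p
    obtain ⟨k, hk⟩ := J.exists_pow_inf_eq_pow_smul
      (LinearMap.range (hhMap A (qπ M (Ideal.span {a} ^ m₁)) p))
    obtain ⟨m₂, hm₂⟩ := (hQ m₁).1 (n + k)
    refine ⟨m₁ + m₂, fun x hx => ?_⟩
    obtain ⟨θ, hθ⟩ := exists_qIso M (Ideal.span {a} ^ m₁) (J ^ m₂)
    have h0 : hhMap A (qπ (Q M (Ideal.span {a} ^ m₁)) (J ^ m₂)) p
        (hhMap A (qπ M (Ideal.span {a} ^ m₁)) p x) = 0 := by
      rw [← hhMap_comp, ← hθ, hhMap_comp, ← hhπ_trans (hle m₁ m₂), hx, map_zero, map_zero]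
    have h3 : hhMap A (qπ M (Ideal.span {a} ^ m₁)) p x ∈
        Submodule.map (hhMap A (qπ M (Ideal.span {a} ^ m₁)) p) (J ^ n • ⊤) := by
      rw [Submodule.map_smul'', Submodule.map_top]
      have h4 : hhMap A (qπ M (Ideal.span {a} ^ m₁)) p x ∈ J ^ (n + k) • ⊤ ⊓
          LinearMap.range (hhMap A (qπ M (Ideal.span {a} ^ m₁)) p) := ⟨hm₂ _ h0, ⟨x, rfl⟩⟩
      rw [hk (n + k) (Nat.le_add_left k n), Nat.add_sub_cancel] at h4
      exact Submodule.smul_mono le_rfl inf_le_right h4
    obtain ⟨z, hz, hzx⟩ := h3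
    have h5 : x - z ∈ (Ideal.span {a} ^ n • ⊤ : Submodule A (Coh.HH X M p)) :=
      hm₁ _ (by rw [map_sub, hzx, sub_self])
    rw [← sub_add_cancel x z]
    exact add_mem (Submodule.smul_mono_left (Ideal.pow_right_mono le_sup_left n) h5)
      (Submodule.smul_mono_left (Ideal.pow_right_mono le_sup_right n) hz)
  · obtain ⟨m₁, hnm₁, hm₁⟩ := h2 n
    obtain ⟨m₂, hnm₂, hm₂⟩ := (hQ m₁).2 n
    refine ⟨m₁ + m₂, hnm₁.trans (Nat.le_add_right _ _), fun y => ?_⟩
    obtain ⟨θ, hθ⟩ := exists_qIso M (Ideal.span {a} ^ m₁) (J ^ m₂)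
    obtain ⟨θ', hθ'⟩ := exists_qIso M (Ideal.span {a} ^ m₁) (J ^ n)
    obtain ⟨v, hv⟩ := hm₂ (hhMap A θ.hom p (hhMap A (qTrans M (hle m₁ m₂)) p y))
    obtain ⟨x, hx⟩ := hm₁ v
    refine ⟨x, ?_⟩
    have ha : Ideal.span {a} ^ n ≤ (Ideal.span {a} ⊔ J) ^ n := Ideal.pow_right_mono le_sup_left n
    have hn' : Ideal.span {a} ^ m₁ ⊔ J ^ n ≤ (Ideal.span {a} ⊔ J) ^ n :=
      sup_le ((Ideal.pow_le_pow_right hnm₁).trans ha) (Ideal.pow_right_mono le_sup_right n)
    let ω : Q (Q M (Ideal.span {a} ^ m₁)) (J ^ n) ⟶ Q M ((Ideal.span {a} ⊔ J) ^ n) :=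
      θ'.inv ≫ qTrans M hn'
    have e1 : qπ (Q M (Ideal.span {a} ^ m₁)) (J ^ n) ≫ ω =
        qTrans M ((Ideal.pow_le_pow_right hnm₁).trans ha) := by
      rw [← cancel_epi (qπ M (Ideal.span {a} ^ m₁)), π_qTrans, ← reassoc_of% hθ',
        Iso.hom_inv_id_assoc, π_qTrans]
    have e2 : θ.hom ≫ qTrans (Q M (Ideal.span {a} ^ m₁)) (Ideal.pow_le_pow_right (I := J) hnm₂) ≫ ω =
        qTrans M ((sup_le_sup le_rfl (Ideal.pow_le_pow_right hnm₂)).trans hn') := by
      rw [← cancel_epi (qπ M (Ideal.span {a} ^ m₁ ⊔ J ^ m₂)), π_qTrans, reassoc_of% hθ,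
        π_qTrans_assoc, e1, π_qTrans]
    have h6 := congrArg (hhMap A ω p) hv
    rw [← hhMap_comp, e1, ← hhMap_comp, ← hhMap_comp, e2, hhTrans_trans] at h6
    rw [← hhπ_trans ha, hx, hhTrans_trans]
    exact h6

/-- The kernels are small and the images stabilise. -/
theorem smallKernels_stableImages (I : Ideal A) (hM : Coh.IsCoh M) (hfin : FiniteOn A (CohB1.support M)) :
    SmallKernels I M p ∧ StableImages I M p := by
  classical
  suffices key : ∀ s : Finset A, ∀ M' : X.Modules, Coh.IsCoh M' → CohB1.support M' ⊆ CohB1.support M →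
      SmallKernels (Ideal.span (s : Set A)) M' p ∧ StableImages (Ideal.span (s : Set A)) M' p by
    obtain ⟨s, rfl⟩ := IsNoetherian.noetherian I
    exact key s M hM subset_rfl
  intro s
  induction s using Finset.induction_on with
  | empty =>
    intro M' _ _
    rw [Finset.coe_empty, Ideal.span_empty]
    exact ⟨smallKernels_bot M' p, stableImages_bot M' p⟩
  | @insert a s ha ih =>
    intro M' hM' hs'
    rw [Finset.coe_insert, Ideal.span_insert]
    exact step a _ hM' (fun N hN hsN => hfin N hN (hsN.trans hs'))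
      fun M'' hM'' hs'' => ih M'' hM'' (hs''.trans hs')

section Limit

variable {I : Ideal A}

/-- Lifts of a compatible family. -/
theorem exists_lift (h1 : SmallKernels I M p) (h2 : StableImages I M p)
    (y : Formal.HHlim I M p) : ∃ x : ℕ → Coh.HH X M p,
      (∀ n, x n ≡ x (n + 1) [SMOD (I ^ n • ⊤ : Submodule A (Coh.HH X M p))]) ∧
      ∀ n, hhMap A (qπ M (I ^ (n + 1))) p (x (n + 1)) = y.1 n := by
  have hy : ∀ n j, hhMap A (qTrans M (Ideal.pow_le_pow_right (I := I) (Nat.succ_le_succ (Nat.le_add_right n j))))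
      p (y.1 (n + j)) = y.1 n := by
    intro n j
    induction j with
    | zero =>
      show hhMap A (qTrans M (le_refl (I ^ (n + 1)))) p (y.1 n) = y.1 n
      rw [qTrans_refl]
      exact hhMap_id _
    | succ j ih =>
      refine Eq.trans ?_ ih
      rw [show y.1 (n + j) = hhMap A (qTrans M (Ideal.pow_le_pow_right (n + j + 1).le_succ)) p
        (y.1 (n + j + 1)) from (y.2 (n + j)).symm, hhTrans_trans]
      rfl
  have hs : ∀ n, ∃ x : Coh.HH X M p, hhMap A (qπ M (I ^ (n + 1))) p x = y.1 n := fun n => by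
    obtain ⟨m, hm, hx⟩ := h2 (n + 1)
    obtain ⟨j, rfl⟩ : ∃ j, m = n + j + 1 := ⟨m - (n + 1), by omega⟩
    obtain ⟨x, hx⟩ := hx (y.1 (n + j))
    exact ⟨x, hx.trans (hy n j)⟩
  choose x hx using hs
  choose m hm using h1
  let μ : ℕ → ℕ := fun k => k + ∑ i ∈ Finset.range (k + 1), m i
  have hμm : ∀ k, m k ≤ μ k := fun k =>
    le_add_left (Finset.single_le_sum (fun i _ => Nat.zero_le (m i)) (Finset.self_mem_range_succ k))
  have hμ : ∀ k, μ k ≤ μ (k + 1) := fun k => by
    have h := Finset.sum_range_succ m (k + 1)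
    simp only [μ]
    omega
  have hlow : ∀ a b, a ≤ b → hhMap A (qπ M (I ^ (a + 1))) p (x b) = y.1 a := fun a b hab => by
    obtain ⟨j, hj⟩ := Nat.exists_eq_add_of_le hab
    subst hj
    rw [← hhπ_trans (Ideal.pow_le_pow_right (I := I) (Nat.succ_le_succ (Nat.le_add_right a j))), hx]
    exact hy a j
  have hdiff : ∀ l b b', l ≤ b → b ≤ b' → hhMap A (qπ M (I ^ l)) p (x b - x b') = 0 := fun l b b' hl hb => by
    cases l with
    | zero =>
      have h : qπ M (I ^ 0) = 0 := by
        have h1 : (1 : A) ∈ I ^ 0 := by rw [pow_zero, Ideal.one_eq_top]; trivial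
        have := mem_ann.1 (le_ann_qπ M (I ^ 0) h1)
        rwa [smulMod_one, Category.id_comp] at this
      rw [h, hhMap_zero]
    | succ l => rw [map_sub, hlow l b (by omega), hlow l b' (by omega), sub_self]
  refine ⟨fun k => x (μ k), fun k => SModEq.sub_mem.2 (hm k _ (hdiff _ _ _ (hμm k) (hμ k))), fun n => ?_⟩
  exact hlow n (μ (n + 1)) (by simp only [μ]; omega)

lemma toHHmodPow_eq_zero (n k : ℕ) (h : n + 1 ≤ k) {x : Coh.HH X M p}
    (hx : x ∈ (I ^ k • ⊤ : Submodule A (Coh.HH X M p))) : hhMap A (qπ M (I ^ (n + 1))) p x = 0 := by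
  refine Submodule.smul_induction_on hx (fun r hr v _ => ?_) (fun v w hv hw => by rw [map_add, hv, hw, add_zero])
  rw [← hhMap_smulMod, ← hhMap_comp,
    mem_ann.1 (le_ann_qπ M _ (Ideal.pow_le_pow_right h hr)), hhMap_zero]

/-- Complete base. -/
theorem bijective_toHHlim [IsAdicComplete I (Coh.HH X M p)] (h1 : SmallKernels I M p) (h2 : StableImages I M p) :
    Function.Bijective (Formal.toHHlim I M p) := by
  refine ⟨(injective_iff_map_eq_zero (Formal.toHHlim I M p)).2 fun x hx => ?_, fun y => ?_⟩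
  · refine IsHausdorff.haus (I := I) inferInstance x fun n => SModEq.zero.2 ?_
    obtain ⟨m, hm⟩ := h1 n
    refine hm x ?_
    have hk : hhMap A (qπ M (I ^ (m + 1))) p x = 0 := congrFun (congrArg Subtype.val hx) m
    rw [← hhπ_trans (Ideal.pow_le_pow_right (I := I) m.le_succ), hk, map_zero]
  · obtain ⟨x, hx, hxy⟩ := exists_lift h1 h2 y
    obtain ⟨L, hL⟩ := IsPrecomplete.prec (inferInstance : IsPrecomplete I (Coh.HH X M p)) (f := x)
      fun {i j} hij => (AdicCompletion.AdicCauchySequence.mk I _ x hx).2 hij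
    refine ⟨L, Subtype.ext (funext fun n => ?_)⟩
    show hhMap A (qπ M (I ^ (n + 1))) p L = y.1 n
    rw [← hxy n]
    refine (sub_eq_zero.1 ?_).symm
    rw [← map_sub]
    exact toHHmodPow_eq_zero n (n + 1) le_rfl (SModEq.sub_mem.1 (hL (n + 1)))

/-- The comparison with the completion. -/
def completionComp : AdicCompletion I (Coh.HH X M p) →+ Formal.HHlim I M p where
  toFun z := ⟨fun n => Submodule.liftQ _ (hhMap A (qπ M (I ^ (n + 1))) p)
      (fun x hx => LinearMap.mem_ker.2 (toHHmodPow_eq_zero n (n + 1) le_rfl hx))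
      (AdicCompletion.eval I _ (n + 1) z), fun n => by
    induction z using AdicCompletion.induction_on with
    | _ f =>
      show hhMap A (qTrans M (Ideal.pow_le_pow_right (n + 1).le_succ)) p
          (hhMap A (qπ M (I ^ (n + 1 + 1))) p (f (n + 1 + 1))) = hhMap A (qπ M (I ^ (n + 1))) p (f (n + 1))
      rw [hhπ_trans]
      refine (sub_eq_zero.1 ?_).symm
      rw [← map_sub]
      exact toHHmodPow_eq_zero n (n + 1) le_rfl
        (SModEq.sub_mem.1 (f.2 (n + 1).le_succ))⟩
  map_zero' := Subtype.ext (funext fun n => by simp; rfl)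
  map_add' z z' := Subtype.ext (funext fun n => by simp; rfl)

/-- General base. -/
theorem bijective_completionComp (h1 : SmallKernels I M p) (h2 : StableImages I M p) :
    Function.Bijective (completionComp (I := I) (M := M) (p := p)) := by
  refine ⟨(injective_iff_map_eq_zero (completionComp (I := I) (M := M) (p := p))).2 fun z hz => ?_, fun y => ?_⟩
  · induction z using AdicCompletion.induction_on with
    | _ f =>
      refine AdicCompletion.ext fun n => ?_
      show Submodule.mkQ _ (f n) = 0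
      rw [Submodule.mkQ_apply, Submodule.Quotient.mk_eq_zero]
      obtain ⟨m, hm⟩ := h1 n
      have hle : n ≤ max n m + 1 := by omega
      rw [← sub_add_cancel (f n) (f (max n m + 1))]
      refine add_mem (SModEq.sub_mem.1 (f.2 hle)) (hm _ ?_)
      have h0 : hhMap A (qπ M (I ^ (max n m + 1))) p (f (max n m + 1)) = 0 :=
        congrFun (congrArg Subtype.val hz) (max n m)
      rw [← hhπ_trans (Ideal.pow_le_pow_right (I := I) (show m ≤ max n m + 1 by omega)), h0, map_zero]
  · obtain ⟨x, hx, hxy⟩ := exists_lift h1 h2 y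
    exact ⟨AdicCompletion.mk I _ (AdicCompletion.AdicCauchySequence.mk I _ x hx),
      Subtype.ext (funext hxy)⟩

end Limit

end Groth.Agent.FormalFun
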