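import Groth.Agent.FormalFun.Adic
import Groth.Agent.CohFinite.Proper
import Groth.Agent.CplFin.Basic

/-!
# The theorem on formal functions
-/

noncomputable section

universe u

open CategoryTheory Limits AlgebraicGeometry Opposite TopologicalSpace Groth.Agent.QCohBase

namespace Groth.Agent.FormalFun

variable {A : Type u} [CommRing A] [IsNoetherianRing A] {X : Scheme.{u}} [X.Over (Spec (CommRingCat.of A))]

lemma finiteOn_of_isProper [IsProper (X ↘ Spec (CommRingCat.of A))] (T : Set X) : FiniteOn A T :=
  fun N hN _ q => CohFinite.finite_HH_proper N hN q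

lemma finiteOn_of_isProperOver [LocallyOfFiniteType (X ↘ Spec (CommRingCat.of A))]
    [QuasiCompact (X ↘ Spec (CommRingCat.of A))] {T : Set X}
    (hT : ClSub.IsProperOver (X ↘ Spec (CommRingCat.of A)) T) : FiniteOn A T :=
  fun N hN hs q => CohFinite.finite_HH_properSupport hT N hN hs q

variable [LocallyOfFiniteType (X ↘ Spec (CommRingCat.of A))]
  [QuasiCompact (X ↘ Spec (CommRingCat.of A))]

/-- Formal functions over a complete base. -/
theorem bijective_of_finiteOn (I : Ideal A) [IsAdicComplete I A] (M : X.Modules) (hM : Coh.IsCoh M)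
    (hfin : FiniteOn A (CohB1.support M)) (p : ℕ) : Function.Bijective (Formal.toHHlim I M p) := by
  haveI := LocallyOfFiniteType.isLocallyNoetherian (X ↘ Spec (CommRingCat.of A))
  haveI : CompactSpace X := QuasiCompact.compactSpace_of_compactSpace (X ↘ Spec (CommRingCat.of A))
  haveI := hfin M hM subset_rfl p
  haveI := CplFin.isAdicComplete_of_finite A I (Coh.HH X M p)
  obtain ⟨h1, h2⟩ := smallKernels_stableImages (p := p) I hM hfin
  exact bijective_toHHlim h1 h2

/-- Formal functions over any base. -/
theorem nonempty_equiv_of_finiteOn (I : Ideal A) (M : X.Modules) (hM : Coh.IsCoh M)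
    (hfin : FiniteOn A (CohB1.support M)) (p : ℕ) :
    Nonempty (AdicCompletion I (Coh.HH X M p) ≃+ Formal.HHlim I M p) := by
  haveI := LocallyOfFiniteType.isLocallyNoetherian (X ↘ Spec (CommRingCat.of A))
  haveI : CompactSpace X := QuasiCompact.compactSpace_of_compactSpace (X ↘ Spec (CommRingCat.of A))
  obtain ⟨h1, h2⟩ := smallKernels_stableImages (p := p) I hM hfin
  exact ⟨AddEquiv.ofBijective _ (bijective_completionComp h1 h2)⟩

end Groth.Agent.FormalFun
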