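import Groth.Agent.FormalFun.Ideal
import Groth.Agent.FormalFun.Main

/-!
# Connectedness of fibres
-/

noncomputable section

universe u

open CategoryTheory Limits AlgebraicGeometry Opposite TopologicalSpace Groth.Agent.QCohBase
open Groth.Agent.CohFinite

namespace Groth.Agent.FormalFun

variable {A : Type u} [CommRing A] {X : Scheme.{u}} [X.Over (Spec (CommRingCat.of A))]

lemma smulMod_app (M : X.Modules) (a : A) (W : X.Opens) (s : Γ(M, W)) :
    (Formal.smulMod A M a).app W s = ores (le_top : W ≤ ⊤) (gl A a : Γ(X, ⊤)) • s := rfl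

lemma mem_basicOpen_gl (x : X) (a : A) :
    x ∈ X.basicOpen (gl A a : Γ(X, ⊤)) ↔ a ∉ ((X ↘ Spec (CommRingCat.of A)) x).asIdeal := by
  show x ∈ X.basicOpen ((X ↘ Spec (CommRingCat.of A)).appTop ((Scheme.ΓSpecIso (CommRingCat.of A)).inv a)) ↔ _
  rw [← Scheme.preimage_basicOpen_top, basicOpen_eq_of_affine]
  rfl

/-- Sections of `M/J^m M` away from the zero set of `J` vanish. -/
lemma sections_Q_eq_zero (M : X.Modules) (J : Ideal A) (m : ℕ) {W : X.Opens}
    (hW : ∀ x ∈ W, ¬ J ≤ ((X ↘ Spec (CommRingCat.of A)) x).asIdeal) (s : Γ(Q M (J ^ m), W)) : s = 0 := by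
  classical
  choose a ha ha' using fun x : W => SetLike.not_le_iff_exists.1 (hW x.1 x.2)
  let u : W → Γ(X, ⊤) := fun x => gl A (a x ^ m)
  refine eq_of_iSup_le _ (fun x => W ⊓ X.basicOpen (u x)) (fun x => inf_le_left) (fun x hx =>
    Opens.mem_iSup.2 ⟨⟨x, hx⟩, hx, ?_⟩) _ _ fun x => ?_
  · rw [SetLike.mem_coe, mem_basicOpen_gl]
    exact fun h => ha' ⟨x, hx⟩ (((((X ↘ Spec (CommRingCat.of A)) x).isPrime).mem_of_pow_mem m h))
  · rw [map_zero]
    have hz : Formal.smulMod A (Q M (J ^ m)) (a x ^ m) = 0 := by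
      rw [← cancel_epi (qπ M (J ^ m)), ← smulMod_naturality,
        mem_ann.1 (le_ann_qπ M _ (Ideal.pow_mem_pow (ha x) m)), comp_zero]
    have h0 : ores (le_top : W ⊓ X.basicOpen (u x) ≤ ⊤) (u x) •
        mres (Q M (J ^ m)) (inf_le_left : W ⊓ X.basicOpen (u x) ≤ W) s = 0 := by
      rw [← smulMod_app, hz]
      rfl
    have hu : IsUnit (ores (le_top : W ⊓ X.basicOpen (u x) ≤ ⊤) (u x)) := by
      have h1 : IsUnit (ores (X.basicOpen_le (u x)) (u x)) := RingedSpace.isUnit_res_basicOpen _ (u x)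
      have h2 : ores (le_top : W ⊓ X.basicOpen (u x) ≤ ⊤) (u x) =
          ores (inf_le_right : W ⊓ X.basicOpen (u x) ≤ X.basicOpen (u x)) (ores (X.basicOpen_le (u x)) (u x)) := by
        show _ = ((X.presheaf.map _ ≫ X.presheaf.map _) : _ ⟶ _) (u x)
        rw [← Functor.map_comp]
        rfl
      rw [h2]
      exact h1.map _
    exact hu.smul_eq_zero.1 h0

variable [IsNoetherianRing A] [IsProper (X ↘ Spec (CommRingCat.of A))]

/-- The set over a specialization of a point cannot be split when all functions come from the base. -/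
theorem not_split (hsurj : Function.Surjective (fun r : A => (gl A r : Γ(X, ⊤))))
    (P : (Spec (CommRingCat.of A) : Scheme.{u})) (Za Zb : Set X) (hZa : IsClosed Za) (hZb : IsClosed Zb)
    (hd : Disjoint Za Zb) (hcov : ∀ x, P ⤳ (X ↘ Spec (CommRingCat.of A)) x → x ∈ Za ∪ Zb)
    (a : X) (ha : a ∈ Za) (hPa : (X ↘ Spec (CommRingCat.of A)) a = P)
    (b : X) (hb : b ∈ Zb) (hPb : (X ↘ Spec (CommRingCat.of A)) b = P) : False := by
  haveI := LocallyOfFiniteType.isLocallyNoetherian (X ↘ Spec (CommRingCat.of A))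
  haveI : CompactSpace X := QuasiCompact.compactSpace_of_compactSpace (X ↘ Spec (CommRingCat.of A))
  let J : Ideal A := P.asIdeal
  let O := Coh.structureModule X
  have hO : Coh.IsCoh O := Devissage.isCoh_structureModule X
  obtain ⟨m, hm, hst⟩ := (smallKernels_stableImages (p := 0) J hO (finiteOn_of_isProper _)).2 1
  let U : Bool → X.Opens := fun c => if c then ⟨Zbᶜ, hZb.isOpen_compl⟩ else ⟨Zaᶜ, hZa.isOpen_compl⟩
  let one : ∀ W : X.Opens, Γ(O, W) := fun W => (1 : Γ(X, W))
  let sf : ∀ c, Γ(Q O (J ^ m), U c) := fun c => if c then (qπ O (J ^ m)).app (U c) (one _) else 0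
  have hz : ∀ (W : X.Opens), W ≤ U true → W ≤ U false → ∀ s t : Γ(Q O (J ^ m), W), s = t := by
    intro W h1 h2 s t
    refine (sections_Q_eq_zero O J m (fun x hx hle => ?_) s).trans
      (sections_Q_eq_zero O J m (fun x hx hle => ?_) t).symm
    all_goals
      exact (hcov x ((PrimeSpectrum.le_iff_specializes _ _).1 hle)).elim (h2 hx) (h1 hx)
  let F : TopCat.Sheaf AddCommGrpCat.{u} X.toTopCat := ⟨(Q O (J ^ m)).presheaf, (Q O (J ^ m)).isSheaf⟩
  obtain ⟨e, he, -⟩ := TopCat.Sheaf.existsUnique_gluing' F U ⊤ (fun c => homOfLE le_top)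
    (fun x _ => by
      by_cases hx : x ∈ Za
      · exact Opens.mem_iSup.2 ⟨true, fun hx' => Set.disjoint_left.1 hd hx hx'⟩
      · exact Opens.mem_iSup.2 ⟨false, hx⟩)
    sf (by
      intro c c'
      cases c <;> cases c'
      · rfl
      · exact hz _ inf_le_right inf_le_left _ _
      · exact hz _ inf_le_left inf_le_right _ _
      · rfl)
  let E := fun (N : X.Modules) => CategoryTheory.Sheaf.H.equiv₀ (T := ⊤) (Coh.toAb N) isTerminalTop
  obtain ⟨x₀, hx₀⟩ := hst ((E (Q O (J ^ m))).symm e)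
  obtain ⟨r, hr⟩ := hsurj (E O x₀)
  have htop : (qπ O (J ^ 1)).app ⊤ (show Γ(O, ⊤) from (gl A r : Γ(X, ⊤))) =
      (qTrans O (Ideal.pow_le_pow_right (I := J) hm)).app ⊤ e := by
    dsimp only at hr
    rw [hr]
    refine (CategoryTheory.Sheaf.H.equiv₀_naturality isTerminalTop ((modAb X).map (qπ O (J ^ 1))) x₀).trans ?_
    refine (congrArg (E (Q O (J ^ 1))) hx₀).trans ?_
    refine (CategoryTheory.Sheaf.H.equiv₀_naturality isTerminalTop
      ((modAb X).map (qTrans O (Ideal.pow_le_pow_right (I := J) hm))) ((E (Q O (J ^ m))).symm e)).symm.trans ?_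
    exact congrArg (fun t => (qTrans O (Ideal.pow_le_pow_right (I := J) hm)).app ⊤ t)
      ((E (Q O (J ^ m))).apply_symm_apply e)
  -- the value at a point over `P`
  have key : ∀ (c : Bool) (x : X), x ∈ U c → (X ↘ Spec (CommRingCat.of A)) x = P →
      ∃ (W : X.Opens) (hx : x ∈ W), X.presheaf.germ W x hx (ores (le_top : W ≤ ⊤) (gl A r : Γ(X, ⊤)) -
        (if c then 1 else 0)) ∈ IsLocalRing.maximalIdeal (X.presheaf.stalk x) := by
    intro c x hxU hPx
    obtain ⟨W, hW, hxW, hWU⟩ := Opens.isBasis_iff_nbhd.1 X.isBasis_affineOpens hxU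
    refine ⟨W, hxW, ?_⟩
    let t : Γ(O, W) := (show Γ(X, W) from ores (le_top : W ≤ ⊤) (gl A r : Γ(X, ⊤)) - (if c then 1 else 0))
    have ht : (qπ O (J ^ 1)).app W t = 0 := by
      have h1 : (qπ O (J ^ 1)).app W (show Γ(O, W) from (ores (le_top : W ≤ ⊤) (gl A r : Γ(X, ⊤)) : Γ(X, W))) =
          (qπ O (J ^ 1)).app W (show Γ(O, W) from ((if c then 1 else 0) : Γ(X, W))) := by
        refine (app_nat (qπ O (J ^ 1)) (le_top : W ≤ ⊤) (show Γ(O, ⊤) from (gl A r : Γ(X, ⊤)))).symm.trans ?_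
        rw [htop, app_nat]
        have hec : mres (Q O (J ^ m)) (le_top : W ≤ ⊤) e = mres (Q O (J ^ m)) hWU (sf c) := by
          rw [← mres_mres (Q O (J ^ m)) (le_top : U c ≤ ⊤) hWU]
          exact congrArg _ (he c)
        rw [hec]
        cases c with
        | false =>
          simp only [sf, Bool.false_eq_true, if_false, map_zero]
          exact (map_zero _).symm
        | true =>
          simp only [sf, if_true]
          rw [app_nat, ← Devissage.comp_app_apply, π_qTrans]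
          refine congrArg _ ?_
          exact map_one (ores hWU)
      exact (map_sub ((qπ O (J ^ 1)).app W).hom _ _).trans (sub_eq_zero.2 h1)
    have hmem := mem_iSup_of_qπ_eq_zero' hO (IsNoetherian.noetherian (J ^ 1)) hW t ht
    suffices h : ∀ s ∈ (⨆ b : ↥(J ^ 1), LinearMap.range (appL (Formal.smulMod A O (b : A)) W)),
        X.presheaf.germ W x hxW (show Γ(X, W) from s) ∈ IsLocalRing.maximalIdeal (X.presheaf.stalk x) from
      h t hmem
    intro s hs
    induction hs using Submodule.iSup_induction' with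
    | mem q s hs =>
      obtain ⟨v, rfl⟩ := hs
      show X.presheaf.germ W x hxW (ores (le_top : W ≤ ⊤) (gl A (q : A) : Γ(X, ⊤)) * (show Γ(X, W) from v)) ∈ _
      rw [map_mul]
      refine Ideal.mul_mem_right _ _ ((IsLocalRing.mem_maximalIdeal _).2 fun hu => ?_)
      have : x ∈ X.basicOpen (gl A (q : A) : Γ(X, ⊤)) := by
        rw [Scheme.mem_basicOpen _ _ x (Opens.mem_top x)]
        rwa [X.presheaf.germ_res_apply] at hu
      rw [mem_basicOpen_gl, hPx] at this
      exact this ((pow_one J).le q.2)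
    | zero => exact (map_zero (X.presheaf.germ W x hxW).hom).symm ▸ zero_mem _
    | add s s' _ _ ih ih' => exact (map_add (X.presheaf.germ W x hxW).hom _ _).symm ▸ add_mem ih ih'
  obtain ⟨Wb, hbW, hrb⟩ := key false b (fun h => Set.disjoint_left.1 hd h hb) hPb
  have hrJ : r ∈ J := by
    by_contra h
    have : b ∈ X.basicOpen (gl A r : Γ(X, ⊤)) := (mem_basicOpen_gl b r).2 (hPb.symm ▸ h)
    rw [Scheme.mem_basicOpen _ _ b (Opens.mem_top b)] at this
    rw [if_neg Bool.false_ne_true, sub_zero, X.presheaf.germ_res_apply] at hrb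
    exact (IsLocalRing.mem_maximalIdeal _).1 hrb this
  obtain ⟨Wa, haW, hra⟩ := key true a (fun h => Set.disjoint_left.1 hd ha h) hPa
  rw [if_pos rfl, map_sub, map_one] at hra
  have hra' : X.presheaf.germ Wa a haW (ores (le_top : Wa ≤ ⊤) (gl A r : Γ(X, ⊤))) ∈
      IsLocalRing.maximalIdeal (X.presheaf.stalk a) := by
    refine (IsLocalRing.mem_maximalIdeal _).2 fun hu => ?_
    have : a ∈ X.basicOpen (gl A r : Γ(X, ⊤)) := by
      rw [Scheme.mem_basicOpen _ _ a (Opens.mem_top a)]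
      rwa [X.presheaf.germ_res_apply] at hu
    exact (mem_basicOpen_gl a r).1 this (hPa.symm ▸ hrJ)
  have h1 := Ideal.sub_mem _ hra' hra
  rw [sub_sub_cancel] at h1
  exact (IsLocalRing.maximalIdeal.isMaximal _).ne_top ((Ideal.eq_top_iff_one _).2 h1)

end Groth.Agent.FormalFun
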