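import Groth.Prelude
import Mathlib.AlgebraicGeometry.FunctionField
import Mathlib.RingTheory.Localization.Integral
import Groth.Agent.DimTheory.Fibre

/-!
# Fibrations of integral schemes and function fields
-/

universe u

open CategoryTheory Limits AlgebraicGeometry TopologicalSpace Opposite

namespace Groth.Agent.FormalFun

variable {X Y : Scheme.{u}}

/-- a rational function lying in every local ring of `W` is a section over `W` -/
lemma exists_germ_generic_eq [IsIntegral X] (W : X.Opens) (hg : genericPoint X ∈ W) (z : X.functionField)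
    (h : ∀ p ∈ W, ∃ a : X.presheaf.stalk p,
      (X.presheaf.stalkSpecializes (genericPoint_specializes p)).hom a = z) :
    ∃ s : Γ(X, W), (X.presheaf.germ W (genericPoint X) hg).hom s = z := by
  have key : ∀ p : W, ∃ (V : X.Opens) (hp : p.1 ∈ V) (hVW : V ≤ W) (s : Γ(X, V)),
      (X.presheaf.germ V (genericPoint X) ((genericPoint_specializes p.1).mem_open V.2 hp)).hom s = z := by
    intro p
    obtain ⟨a, ha⟩ := h p.1 p.2
    obtain ⟨V, hp, s, rfl⟩ := X.presheaf.exists_germ_eq a
    rw [← CategoryTheory.ConcreteCategory.comp_apply, TopCat.Presheaf.germ_stalkSpecializes] at ha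
    refine ⟨V ⊓ W, ⟨hp, p.2⟩, inf_le_right, X.presheaf.map (homOfLE inf_le_left).op s, ?_⟩
    rw [TopCat.Presheaf.germ_res_apply]
    exact ha
  choose V hp hVW s hs using key
  have hcov : W ≤ iSup V := fun x hx => Opens.mem_iSup.2 ⟨⟨x, hx⟩, hp _⟩
  obtain ⟨t, ht, -⟩ := X.sheaf.existsUnique_gluing' V W (fun p => homOfLE (hVW p)) hcov s (fun p q => by
    apply germ_injective_of_isIntegral (X := X) (genericPoint X)
      (show genericPoint X ∈ V p ⊓ V q from ⟨(genericPoint_specializes p.1).mem_open (V p).2 (hp p),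
        (genericPoint_specializes q.1).mem_open (V q).2 (hp q)⟩)
    exact ((TopCat.Presheaf.germ_res_apply _ _ _ _ _).trans (hs p)).trans
      ((TopCat.Presheaf.germ_res_apply _ _ _ _ _).trans (hs q)).symm)
  let p : W := ⟨genericPoint X, hg⟩
  refine ⟨t, ?_⟩
  rw [← hs p, ← ht p]
  exact (TopCat.Presheaf.germ_res_apply X.presheaf (homOfLE (hVW p)) _ _ t).symm

lemma genericPoint_map [IsIntegral X] [IsIntegral Y] (f : X ⟶ Y)
    (h : f.base (genericPoint X) ⤳ genericPoint Y) : f.base (genericPoint X) = genericPoint Y :=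
  (h.antisymm (genericPoint_specializes _)).eq

lemma germ_stalkToFunctionField [IsIntegral X] [IsIntegral Y] (f : X ⟶ Y)
    (h : f.base (genericPoint X) ⤳ genericPoint Y) (V : Y.Opens) (hV : genericPoint Y ∈ V)
    (hX : genericPoint X ∈ f ⁻¹ᵁ V) (s : Γ(Y, V)) :
    (X.presheaf.germ (f ⁻¹ᵁ V) (genericPoint X) hX).hom (f.app V s) =
      CohIII.stalkToFunctionField f (genericPoint Y) h ((Y.presheaf.germ V (genericPoint Y) hV).hom s) := by
  show _ = f.stalkMap (genericPoint X) (Y.presheaf.stalkSpecializes h (Y.presheaf.germ V (genericPoint Y) hV s))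
  rw [← CategoryTheory.ConcreteCategory.comp_apply (Y.presheaf.germ V (genericPoint Y) hV),
    TopCat.Presheaf.germ_stalkSpecializes, Scheme.Hom.germ_stalkMap_apply]

/-- fibration with normal source: the base function field is algebraically closed in the source one -/
theorem integralElem_mem_range [IsIntegral X] [IsIntegral Y]
    (hX : ∀ p : X, IsIntegrallyClosed (X.presheaf.stalk p)) (f : X ⟶ Y)
    (h : f.base (genericPoint X) ⤳ genericPoint Y) (hf : ∀ V : Y.Opens, IsIso (f.app V))
    (x : X.functionField)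
    (hx : (CohIII.stalkToFunctionField f (genericPoint Y) h).IsIntegralElem x) :
    x ∈ (CohIII.stalkToFunctionField f (genericPoint Y) h).range := by
  obtain ⟨_, ⟨V, hV, rfl⟩, hgV, -⟩ := Y.isBasis_affineOpens.exists_subset_of_mem_open
    (Set.mem_univ (genericPoint Y)) isOpen_univ
  change genericPoint Y ∈ V at hgV
  haveI : Nonempty V := ⟨⟨_, hgV⟩⟩
  have hgX : genericPoint X ∈ f ⁻¹ᵁ V := by
    show f.base (genericPoint X) ∈ V
    rw [genericPoint_map f h]; exact hgV
  haveI := functionField_isFractionRing_of_isAffineOpen Y V hV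
  let ι := CohIII.stalkToFunctionField f (genericPoint Y) h
  letI algK : Algebra Y.functionField X.functionField := ι.toAlgebra
  letI algA : Algebra Γ(Y, V) X.functionField := (ι.comp (algebraMap Γ(Y, V) Y.functionField)).toAlgebra
  haveI : IsScalarTower Γ(Y, V) Y.functionField X.functionField := IsScalarTower.of_algebraMap_eq' rfl
  have halg : IsAlgebraic Γ(Y, V) x :=
    (IsFractionRing.isAlgebraic_iff Γ(Y, V) Y.functionField X.functionField).2
      (IsIntegral.isAlgebraic hx)
  obtain ⟨m, hm0, hmint⟩ := halg.exists_integral_multiple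
  have hmx : m • x = ι (algebraMap Γ(Y, V) Y.functionField m) * x := Algebra.smul_def _ _
  obtain ⟨s, hs⟩ := exists_germ_generic_eq (f ⁻¹ᵁ V) hgX (m • x) (fun p hp => by
    haveI := hX p
    haveI : IsFractionRing (X.presheaf.stalk p) X.functionField := inferInstance
    have hint : IsIntegral (X.presheaf.stalk p) (m • x) := by
      obtain ⟨P, hP, hPe⟩ := hmint
      refine ⟨P.map ((X.presheaf.germ (f ⁻¹ᵁ V) p hp).hom.comp (f.app V).hom), hP.map _, ?_⟩
      rw [Polynomial.eval₂_map, ← hPe]
      congr 1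
      refine RingHom.ext fun a => ?_
      show (X.presheaf.stalkSpecializes (genericPoint_specializes p)).hom
        ((X.presheaf.germ (f ⁻¹ᵁ V) p hp).hom (f.app V a)) = _
      rw [← CategoryTheory.ConcreteCategory.comp_apply, TopCat.Presheaf.germ_stalkSpecializes]
      exact germ_stalkToFunctionField f h V hgV hgX a
    obtain ⟨a, ha⟩ := IsIntegrallyClosed.algebraMap_eq_of_integral hint
    exact ⟨a, ha⟩)
  haveI := hf V
  obtain ⟨t, rfl⟩ := (ConcreteCategory.bijective_of_isIso (f.app V)).2 s
  have hne : algebraMap Γ(Y, V) Y.functionField m ≠ 0 := fun h0 =>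
    hm0 (IsFractionRing.injective Γ(Y, V) Y.functionField (h0.trans (map_zero _).symm))
  refine ⟨(algebraMap Γ(Y, V) Y.functionField m)⁻¹ * algebraMap Γ(Y, V) Y.functionField t, ?_⟩
  have ht : ι (algebraMap Γ(Y, V) Y.functionField t) = m • x :=
    (germ_stalkToFunctionField f h V hgV hgX t).symm.trans hs
  rw [map_mul, map_inv₀, ht, hmx, ← mul_assoc, inv_mul_cancel₀ ((map_ne_zero ι).2 hne), one_mul]

/-- fibration between schemes of the same dimension: birational -/
theorem bijective_of_isIso_app {k : Type u} [Field k] [IsIntegral X] [IsIntegral Y]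
    (q : Y ⟶ Spec (CommRingCat.of k)) [LocallyOfFiniteType q] [IsSeparated q] (f : X ⟶ Y)
    [IsProper f] (h : f.base (genericPoint X) ⤳ genericPoint Y)
    (hdim : topologicalKrullDim ↥X = topologicalKrullDim ↥Y)
    (hf : ∀ V : Y.Opens, IsIso (f.app V)) :
    Function.Bijective (CohIII.stalkToFunctionField f (genericPoint Y) h) := by
  refine ⟨RingHom.injective _, fun x => ?_⟩
  have hη := genericPoint_map f h
  -- the generic fibre is one point
  have hsingle : ∀ p : X, f p = genericPoint Y → p = genericPoint X := by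
    intro p hp
    have hle : ∀ {Z : Scheme.{u}} [IsIntegral Z] (z : Z), z ≤ genericPoint Z :=
      fun z => (genericPoint_specializes z)
    have hdX : ∀ {Z : Scheme.{u}} [IsIntegral Z],
        topologicalKrullDim ↥Z = (Order.height (genericPoint Z) : WithBot ℕ∞) := fun {Z} _ => by
      rw [DimTheory.topologicalKrullDim_eq_iSup_height]
      exact le_antisymm (iSup_le fun z => WithBot.coe_le_coe.2 (Order.height_mono (hle z)))
        (le_iSup (fun z : Z => (Order.height z : WithBot ℕ∞)) (genericPoint Z))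
    let z₀ : f.fiber (genericPoint Y) := (f.fiberHomeo (genericPoint Y)).symm ⟨genericPoint X, hη⟩
    have hz₀ : f.fiberι (genericPoint Y) z₀ = genericPoint X := by
      rw [Scheme.Hom.fiberι_fiberHomeo_symm]
    let zp : f.fiber (genericPoint Y) := (f.fiberHomeo (genericPoint Y)).symm ⟨p, hp⟩
    have hzp : f.fiberι (genericPoint Y) zp = p := by
      rw [Scheme.Hom.fiberι_fiberHomeo_symm]
    have e := DimTheory.height_fiberι f q (genericPoint Y) z₀
    rw [hz₀] at e
    rw [hdX, hdX, WithBot.coe_inj] at hdim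
    rw [hdim] at e
    have h0 : Order.height z₀ = 0 := by
      obtain ⟨n, -, hn⟩ := DimTheory.exists_height_eq q (genericPoint Y)
      rw [hn] at e
      obtain ⟨j, hj⟩ : ∃ j : ℕ, (j : ℕ∞) = Order.height z₀ := by
        refine ENat.ne_top_iff_exists.1 fun hc => ?_
        rw [hc, add_top] at e
        exact ENat.coe_ne_top n e
      rw [← hj] at e ⊢
      norm_cast at e ⊢
      omega
    have hsp : zp ≤ z₀ := by
      show z₀ ⤳ zp
      rw [← (f.fiberι (genericPoint Y)).isEmbedding.toIsInducing.specializes_iff, hz₀, hzp]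
      exact genericPoint_specializes p
    have := (Order.height_eq_zero.1 h0) hsp
    rw [← hzp, ← hz₀]
    exact ((f.fiberι (genericPoint Y)).isEmbedding.toIsInducing.specializes_iff.2
      (show z₀ ⤳ zp from hsp)).antisymm
      ((f.fiberι (genericPoint Y)).isEmbedding.toIsInducing.specializes_iff.2
      (show zp ⤳ z₀ from this)) |>.eq.symm
  obtain ⟨_, ⟨W, hW, rfl⟩, hgW, -⟩ := X.isBasis_affineOpens.exists_subset_of_mem_open
    (Set.mem_univ (genericPoint X)) isOpen_univ
  change genericPoint X ∈ W at hgW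
  let C : Set Y := f '' (↑W)ᶜ
  have hC : IsClosed C := f.isClosedMap _ W.2.isClosed_compl
  have hgC : genericPoint Y ∉ C := by
    rintro ⟨p, hpW, hp⟩
    exact hpW (hsingle p hp ▸ hgW)
  obtain ⟨_, ⟨V, hV, rfl⟩, hgV, hVC⟩ := Y.isBasis_affineOpens.exists_subset_of_mem_open
    (show genericPoint Y ∈ Cᶜ from hgC) hC.isOpen_compl
  change genericPoint Y ∈ V at hgV
  have hVW : f ⁻¹ᵁ V ≤ W := fun p hp => by_contra fun hpW => hVC hp ⟨p, hpW, rfl⟩
  haveI : Y.IsSeparated := ⟨by
    have : IsSeparated (q ≫ terminal.from _) := inferInstance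
    rwa [show terminal.from Y = q ≫ terminal.from _ from terminal.hom_ext _ _]⟩
  have haff : IsAffineOpen (f ⁻¹ᵁ V) := by
    haveI : IsAffine (Scheme.Opens.toScheme W) := hW
    haveI : IsSeparated (terminal.from Y) := ‹Y.IsSeparated›.1
    haveI : IsAffineHom ((Scheme.Opens.ι W ≫ f) ≫ terminal.from Y) := isAffineHom_of_isAffine _
    haveI : IsAffineHom (Scheme.Opens.ι W ≫ f) := IsAffineHom.of_comp _ (terminal.from Y)
    have h1 : IsAffineOpen ((Scheme.Opens.ι W ≫ f) ⁻¹ᵁ V) := hV.preimage _
    have h2 := h1.image_of_isOpenImmersion (Scheme.Opens.ι W)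
    rwa [Scheme.Hom.comp_preimage, Scheme.Hom.image_preimage_eq_opensRange_inf, Scheme.Opens.opensRange_ι,
      inf_eq_right.2 hVW] at h2
  have hgX : genericPoint X ∈ f ⁻¹ᵁ V := by
    show f.base (genericPoint X) ∈ V
    rw [hη]; exact hgV
  haveI : Nonempty (f ⁻¹ᵁ V : X.Opens) := ⟨⟨_, hgX⟩⟩
  haveI := functionField_isFractionRing_of_isAffineOpen X (f ⁻¹ᵁ V) haff
  obtain ⟨a, b, -, rfl⟩ := IsFractionRing.div_surjective (A := Γ(X, f ⁻¹ᵁ V)) x
  haveI := hf V
  obtain ⟨a, rfl⟩ := (ConcreteCategory.bijective_of_isIso (f.app V)).2 a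
  obtain ⟨b, rfl⟩ := (ConcreteCategory.bijective_of_isIso (f.app V)).2 b
  refine ⟨(Y.presheaf.germ V (genericPoint Y) hgV).hom a / (Y.presheaf.germ V (genericPoint Y) hgV).hom b, ?_⟩
  rw [map_div₀, ← germ_stalkToFunctionField f h V hgV hgX, ← germ_stalkToFunctionField f h V hgV hgX]
  rfl

end Groth.Agent.FormalFun
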