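import Groth.Agent.FormalFun.Connected
import Mathlib.AlgebraicGeometry.Fiber

/-!
# Connected fibres of proper maps without new functions
-/

noncomputable section

universe u

open CategoryTheory Limits AlgebraicGeometry Opposite TopologicalSpace Groth.Agent.QCohBase

namespace Groth.Agent.FormalFun

/-- A splitting of a fibre spreads over the closure of the point. -/
lemma exists_open_split {α β : Type u} [TopologicalSpace α] [NoetherianSpace α] [TopologicalSpace β] [T0Space β] [QuasiSober α]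
    (f : α → β) (hf : Continuous f) (hfc : IsClosedMap f) (y : β) (T₁ T₂ : Set α) (h₁ : IsClosed T₁)
    (h₂ : IsClosed T₂) (hF : f ⁻¹' {y} ⊆ T₁ ∪ T₂) (hd : ∀ x, f x = y → x ∈ T₁ → x ∉ T₂) :
    ∃ O : Set β, IsOpen O ∧ y ∈ O ∧
      ∀ x, f x ∈ O → y ⤳ f x → x ∈ T₁ ∪ T₂ ∧ (x ∈ T₁ → x ∉ T₂) := by
  let Z : Closeds α := ⟨f ⁻¹' closure {y}, isClosed_closure.preimage hf⟩
  obtain ⟨S, hS, hirr, hZ⟩ := NoetherianSpace.exists_finite_set_closeds_irreducible Z
  let Bad : Set α := (⋃ T ∈ {T ∈ S | Disjoint (T : Set α) (f ⁻¹' {y})}, (T : Set α)) ∪ ((Z : Set α) ∩ (T₁ ∩ T₂))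
  have hBad : IsClosed Bad :=
    ((hS.subset fun T hT => hT.1).isClosed_biUnion fun T _ => T.isClosed).union (Z.isClosed.inter (h₁.inter h₂))
  refine ⟨(f '' Bad)ᶜ, (hfc Bad hBad).isOpen_compl, ?_, fun x hxO hyx => ?_⟩
  · rintro ⟨x, hx, hxy⟩
    rcases hx with hx | ⟨-, hx₁, hx₂⟩
    · obtain ⟨T, hT, hxT⟩ := Set.mem_iUnion₂.1 hx
      exact Set.disjoint_left.1 hT.2 hxT hxy
    · exact hd x hxy hx₁ hx₂
  have hxZ : x ∈ Z := specializes_iff_mem_closure.1 hyx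
  refine ⟨?_, fun hx₁ hx₂ => hxO ⟨x, Or.inr ⟨hxZ, hx₁, hx₂⟩, rfl⟩⟩
  have hx' : x ∈ ⋃ T ∈ S, (T : Set α) := by
    have hcl : IsClosed (⋃ T ∈ S, (T : Set α)) := hS.isClosed_biUnion fun T _ => T.isClosed
    have : Z ≤ ⟨_, hcl⟩ := hZ ▸ sSup_le fun T hT => Set.subset_biUnion_of_mem (u := fun T : Closeds α => (T : Set α)) hT
    exact this hxZ
  obtain ⟨T, hT, hxT⟩ := Set.mem_iUnion₂.1 hx'
  by_cases hTF : Disjoint (T : Set α) (f ⁻¹' {y})
  · exact absurd ⟨x, Or.inl (Set.mem_iUnion₂.2 ⟨T, ⟨hT, hTF⟩, hxT⟩), rfl⟩ hxO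
  obtain ⟨z, hzT, hzy⟩ := Set.not_disjoint_iff.1 hTF
  have hTZ : T ≤ Z := hZ ▸ le_sSup hT
  obtain ⟨t, ht⟩ := QuasiSober.sober (hirr T hT) T.isClosed
  have hty : f t = y := ((((ht.specializes hzT).map hf).trans (specializes_of_eq hzy)).antisymm
    (specializes_iff_mem_closure.2 (hTZ ht.mem))).eq
  exact (closure_minimal ((Set.singleton_subset_iff.2 (show t ∈ f ⁻¹' {y} from hty)).trans hF) (h₁.union h₂))
    (ht.symm.le hxT)

lemma surjective_morphismRestrict_app {X Y : Scheme.{u}} (f : X ⟶ Y) (V : Y.Opens) (W : V.toScheme.Opens)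
    (h : Function.Surjective (f.app (V.ι ''ᵁ W))) : Function.Surjective ((f ∣_ V).app W) := by
  rw [morphismRestrict_app]
  intro t
  obtain ⟨s, hs⟩ := (ConcreteCategory.bijective_of_isIso
    (X.presheaf.map (eqToHom (image_morphismRestrict_preimage f V W)).op)).2 t
  obtain ⟨r, hr⟩ := h s
  exact ⟨r, (congrArg (fun z => (X.presheaf.map (eqToHom (image_morphismRestrict_preimage f V W)).op) z) hr).trans hs⟩

/-- Over a noetherian affine base. -/
theorem isPreconnected_fibre_of_isAffine {X Y : Scheme.{u}} (f : X ⟶ Y) [IsProper f] [IsAffine Y]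
    [IsLocallyNoetherian Y] (hf : ∀ V : Y.Opens, IsAffineOpen V → Function.Surjective (f.app V)) (y : Y) :
    _root_.IsPreconnected (f ⁻¹' {y}) := by
  haveI := LocallyOfFiniteType.isLocallyNoetherian f
  haveI : CompactSpace X := QuasiCompact.compactSpace_of_compactSpace f
  haveI : AlgebraicGeometry.IsNoetherian X := { }
  rw [isPreconnected_closed_iff]
  rintro T₁ T₂ h₁ h₂ hF ⟨a, haF, ha⟩ ⟨b, hbF, hb⟩
  by_contra hne
  have hd : ∀ x, f x = y → x ∈ T₁ → x ∉ T₂ := fun x hx hx₁ hx₂ => hne ⟨x, hx, hx₁, hx₂⟩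
  obtain ⟨O, hO, hyO, hsp⟩ := exists_open_split f f.continuous f.isClosedMap y T₁ T₂ h₁ h₂ hF hd
  obtain ⟨(V : Y.Opens), hV, hyV, hVO⟩ := Opens.isBasis_iff_nbhd.1 Y.isBasis_affineOpens (show y ∈ (⟨O, hO⟩ : Y.Opens) from hyO)
  haveI : IsNoetherianRing Γ(Y, V) := QCohBase.isNoetherianRing_sections hV
  letI : (f ⁻¹ᵁ V).toScheme.Over (Spec (CommRingCat.of Γ(Y, V))) := ⟨f ∣_ V ≫ hV.isoSpec.hom⟩
  haveI : IsProper ((f ⁻¹ᵁ V).toScheme ↘ Spec (CommRingCat.of Γ(Y, V))) :=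
    inferInstanceAs (IsProper (f ∣_ V ≫ hV.isoSpec.hom))
  haveI : IsNoetherianRing (CommRingCat.of Γ(Y, V)) := QCohBase.isNoetherianRing_sections hV
  let g := (f ⁻¹ᵁ V).toScheme ↘ Spec (CommRingCat.of Γ(Y, V))
  have hsurj : Function.Surjective (fun r : Γ(Y, V) => (gl (X := (f ⁻¹ᵁ V).toScheme) Γ(Y, V) r : Γ((f ⁻¹ᵁ V).toScheme, ⊤))) := by
    intro s
    haveI : IsAffine V := hV
    have hs : Function.Surjective ((f ∣_ V).app ⊤) :=
      surjective_morphismRestrict_app f V ⊤ (hf _ ((isAffineOpen_top V.toScheme).image_of_isOpenImmersion V.ι))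
    have h2 : Function.Surjective (hV.isoSpec.hom.app ⊤) := (ConcreteCategory.bijective_of_isIso _).2
    obtain ⟨t, rfl⟩ := hs s
    obtain ⟨t', rfl⟩ := h2 t
    obtain ⟨r, rfl⟩ := (ConcreteCategory.bijective_of_isIso (Scheme.ΓSpecIso (CommRingCat.of Γ(Y, V))).inv).2 t'
    exact ⟨r, rfl⟩
  have hgy : ∀ x : (f ⁻¹ᵁ V).toScheme, g x = hV.isoSpec.hom ⟨f x.1, x.2⟩ := fun x => by
    show (f ∣_ V ≫ hV.isoSpec.hom) x = _
    rw [Scheme.Hom.comp_apply]
    congr 1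
    refine Subtype.ext ?_
    exact morphismRestrict_base_coe f V x
  let ι := (f ⁻¹ᵁ V).ι
  have haV : a ∈ f ⁻¹ᵁ V := by show f a ∈ V; rw [show f a = y from haF]; exact hyV
  have hbV : b ∈ f ⁻¹ᵁ V := by show f b ∈ V; rw [show f b = y from hbF]; exact hyV
  have hspec : ∀ x : (f ⁻¹ᵁ V).toScheme, hV.isoSpec.hom ⟨y, hyV⟩ ⤳ g x → y ⤳ f x.1 := fun x hx => by
    rw [hgy] at hx
    have := (hV.isoSpec.hom.isOpenEmbedding.isInducing.specializes_iff).1 hx
    exact (subtype_specializes_iff _ _).1 this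
  refine not_split (A := Γ(Y, V)) hsurj (hV.isoSpec.hom ⟨y, hyV⟩)
    (ι ⁻¹' T₁ ∩ g ⁻¹' closure {hV.isoSpec.hom ⟨y, hyV⟩}) (ι ⁻¹' T₂ ∩ g ⁻¹' closure {hV.isoSpec.hom ⟨y, hyV⟩})
    ((h₁.preimage ι.continuous).inter (isClosed_closure.preimage g.continuous))
    ((h₂.preimage ι.continuous).inter (isClosed_closure.preimage g.continuous))
    (Set.disjoint_left.2 fun x hx hx' => (hsp x.1 (hVO x.2) (hspec x (specializes_iff_mem_closure.2 hx.2))).2 hx.1 hx'.1)
    (fun x hx => ((hsp x.1 (hVO x.2) (hspec x hx)).1).imp (fun h => ⟨h, specializes_iff_mem_closure.1 hx⟩)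
      fun h => ⟨h, specializes_iff_mem_closure.1 hx⟩)
    ⟨a, haV⟩ ⟨ha, ?_⟩ ?_ ⟨b, hbV⟩ ⟨hb, ?_⟩ ?_
  all_goals
    first
      | (rw [hgy]; congr 1; exact Subtype.ext (by assumption))
      | (show g _ ∈ closure _; rw [hgy]; apply subset_closure; rw [Set.mem_singleton_iff]; congr 1;
         exact Subtype.ext (by assumption))

/-- Fibres are preconnected. -/
theorem isPreconnected_fibre {X Y : Scheme.{u}} (f : X ⟶ Y) [IsProper f] [IsLocallyNoetherian Y]
    (hf : ∀ V : Y.Opens, IsAffineOpen V → Function.Surjective (f.app V)) (y : Y) :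
    _root_.IsPreconnected (f ⁻¹' {y}) := by
  obtain ⟨(U : Y.Opens), hU, hyU, -⟩ := Opens.isBasis_iff_nbhd.1 Y.isBasis_affineOpens (Opens.mem_top y)
  haveI : IsAffine U := hU
  have h := isPreconnected_fibre_of_isAffine (f ∣_ U) (fun V hV =>
    surjective_morphismRestrict_app f U V (hf _ (hV.image_of_isOpenImmersion U.ι))) ⟨y, hyU⟩
  have himg : (f ⁻¹ᵁ U).ι '' ((f ∣_ U) ⁻¹' {⟨y, hyU⟩}) = f ⁻¹' {y} := by
    ext x
    constructor
    · rintro ⟨z, hz, rfl⟩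
      exact (morphismRestrict_base_coe f U z).symm.trans (congrArg Subtype.val hz)
    · intro hx
      have hxU : x ∈ f ⁻¹ᵁ U := by show f x ∈ U; rw [show f x = y from hx]; exact hyU
      exact ⟨⟨x, hxU⟩, Subtype.ext ((morphismRestrict_base_coe f U ⟨x, hxU⟩).trans hx), rfl⟩
  exact himg ▸ h.image _ (f ⁻¹ᵁ U).ι.continuous.continuousOn

/-- Fibres are connected if there are no new functions. -/
theorem connectedSpace_fiber {X Y : Scheme.{u}} (f : X ⟶ Y) [IsProper f] [IsLocallyNoetherian Y]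
    (hf : ∀ V : Y.Opens, IsIso (f.app V)) (y : Y) : ConnectedSpace (f.fiber y) := by
  have hne : (f ⁻¹' {y}).Nonempty := by
    by_contra hempty
    have hy : y ∈ (Set.range f)ᶜ := fun ⟨x, hx⟩ => hempty ⟨x, hx⟩
    let V : Y.Opens := ⟨(Set.range f)ᶜ, f.isClosedMap.isClosed_range.isOpen_compl⟩
    have hbot : f ⁻¹ᵁ V = ⊥ := TopologicalSpace.Opens.ext (Set.eq_empty_of_forall_notMem fun x hx => hx ⟨x, rfl⟩)
    haveI : Subsingleton Γ(X, f ⁻¹ᵁ V) := hbot ▸ inferInstance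
    haveI := hf V
    haveI : Subsingleton Γ(Y, V) := (ConcreteCategory.bijective_of_isIso (f.app V)).1.subsingleton
    have h01 := congrArg (Y.presheaf.germ V y hy) (Subsingleton.elim (0 : Γ(Y, V)) 1)
    rw [map_zero, map_one] at h01
    exact zero_ne_one h01
  have hc : _root_.IsConnected (f ⁻¹' {y}) := ⟨hne, isPreconnected_fibre f
    (fun V _ => haveI := hf V; (ConcreteCategory.bijective_of_isIso (f.app V)).2) y⟩
  haveI := Subtype.connectedSpace hc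
  exact (f.fiberHomeo y).symm.surjective.connectedSpace (f.fiberHomeo y).symm.continuous

end Groth.Agent.FormalFun
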