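import Mathlib.Algebra.DirectSum.Module
import Mathlib.RingTheory.FiniteType
import Mathlib.RingTheory.Noetherian.Basic

/-!
# Eventually generated graded systems over a noetherian ring
-/

noncomputable section

universe u

open DirectSum

namespace Groth.Agent.FormalFun

variable {R : Type u} [CommRing R] {ι : Type} [Fintype ι] (M : ℕ → Type u)
  [∀ k, AddCommGroup (M k)] [∀ k, Module R (M k)] (t : ι → ∀ k, M k →ₗ[R] M (k + 1))

/-- From some degree on, the system is generated by the transition maps. -/
def EvGen (N : ∀ k, Submodule R (M k)) : Prop :=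
  ∃ k₀, ∀ k, k₀ ≤ k → N (k + 1) = ⨆ i, (N k).map (t i k)

variable {M}

/-- The shift by a transition map on the direct sum. -/
def shiftEnd (i : ι) : Module.End R (⨁ k, M k) :=
  DirectSum.toModule R ℕ _ fun k => (DirectSum.lof R ℕ M (k + 1)).comp (t i k)

omit [Fintype ι] in
lemma shiftEnd_lof (i : ι) (k : ℕ) (x : M k) :
    shiftEnd t i (DirectSum.lof R ℕ M k x) = DirectSum.lof R ℕ M (k + 1) (t i k x) := by
  simp [shiftEnd, DirectSum.toModule_lof]

omit [Fintype ι] in
lemma component_shiftEnd (i : ι) (d : ⨁ k, M k) (k : ℕ) :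
    DirectSum.component R ℕ M (k + 1) (shiftEnd t i d) = t i k (DirectSum.component R ℕ M k d) := by
  induction d using DirectSum.induction_on with
  | zero => simp
  | of j x =>
    rw [← DirectSum.lof_eq_of R, shiftEnd_lof]
    rcases eq_or_ne j k with rfl | h
    · simp [DirectSum.component.lof_self]
    · rw [DirectSum.component.of, DirectSum.component.of, dif_neg (fun e => h (Nat.succ_injective e)),
        dif_neg h, map_zero]
  | add a b ha hb => simp [ha, hb]

omit [Fintype ι] in
lemma component_shiftEnd_zero (i : ι) (d : ⨁ k, M k) :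
    DirectSum.component R ℕ M 0 (shiftEnd t i d) = 0 := by
  induction d using DirectSum.induction_on with
  | zero => simp
  | of j x => rw [← DirectSum.lof_eq_of R, shiftEnd_lof, DirectSum.component.of, dif_neg (Nat.succ_ne_zero j)]
  | add a b ha hb => simp [ha, hb]

variable [IsNoetherianRing R]

/-- Stable subsystems of finitely generated systems are finitely generated. -/
theorem evGen_of_le (hfin : ∀ k, Module.Finite R (M k))
    (hcomm : ∀ i j k x, t i (k + 1) (t j k x) = t j (k + 1) (t i k x))
    (hgen : EvGen M t fun _ => ⊤) (N : ∀ k, Submodule R (M k))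
    (hN : ∀ i k, (N k).map (t i k) ≤ N (k + 1)) : EvGen M t N := by
  classical
  let D := ⨁ k, M k
  let s : Set (Module.End R D) := Set.range (shiftEnd t)
  have hs : ∀ a ∈ s, ∀ b ∈ s, a * b = b * a := by
    rintro _ ⟨i, rfl⟩ _ ⟨j, rfl⟩
    refine DirectSum.linearMap_ext R fun k => LinearMap.ext fun x => ?_
    simp only [LinearMap.comp_apply, Module.End.mul_apply, shiftEnd_lof, hcomm]
  haveI := Algebra.isMulCommutative_adjoin R hs
  let C := Algebra.adjoin R s
  letI : CommRing C := { (inferInstance : Ring C) with mul_comm := IsMulCommutative.is_comm.comm }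
  haveI : Algebra.FiniteType R C := (Subalgebra.fg_iff_finiteType C).1
    (Subalgebra.fg_def.2 ⟨s, Set.finite_range _, rfl⟩)
  haveI : IsNoetherianRing C := Algebra.FiniteType.isNoetherianRing R C
  obtain ⟨k₀, hk₀⟩ := hgen
  choose G hG using fun k => (hfin k).fg_top
  let S : Submodule C D := Submodule.span C
    (⋃ k ∈ Finset.range (k₀ + 1), DirectSum.lof R ℕ M k '' (G k : Set (M k)))
  have hS : ∀ k x, DirectSum.lof R ℕ M k x ∈ S := by
    intro k
    induction k with
    | zero =>
      intro x
      have hx : x ∈ Submodule.span R (G 0 : Set (M 0)) := hG 0 ▸ Submodule.mem_top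
      induction hx using Submodule.span_induction with
      | mem a ha => exact Submodule.subset_span (Set.mem_biUnion (Finset.mem_range.2 (by omega)) ⟨a, ha, rfl⟩)
      | zero => rw [map_zero]; exact zero_mem _
      | add a b _ _ iha ihb => rw [map_add]; exact add_mem iha ihb
      | smul r a _ iha => rw [map_smul, ← algebraMap_smul C r]; exact S.smul_mem _ iha
    | succ k ih =>
      intro x
      by_cases hk : k + 1 ≤ k₀
      · have hx : x ∈ Submodule.span R (G (k + 1) : Set (M (k + 1))) := hG (k + 1) ▸ Submodule.mem_top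
        induction hx using Submodule.span_induction with
        | mem a ha => exact Submodule.subset_span (Set.mem_biUnion (Finset.mem_range.2 (by omega)) ⟨a, ha, rfl⟩)
        | zero => rw [map_zero]; exact zero_mem _
        | add a b _ _ iha ihb => rw [map_add]; exact add_mem iha ihb
        | smul r a _ iha => rw [map_smul, ← algebraMap_smul C r]; exact S.smul_mem _ iha
      · have hx : x ∈ ⨆ i, (⊤ : Submodule R (M k)).map (t i k) := (hk₀ k (by omega)) ▸ Submodule.mem_top
        induction hx using Submodule.iSup_induction' with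
        | mem i a ha =>
          obtain ⟨b, -, rfl⟩ := ha
          rw [← shiftEnd_lof]
          exact S.smul_mem (⟨shiftEnd t i, Algebra.subset_adjoin ⟨i, rfl⟩⟩ : C) (ih b)
        | zero => rw [map_zero]; exact zero_mem _
        | add a b _ _ iha ihb => rw [map_add]; exact add_mem iha ihb
  haveI : Module.Finite C D := by
    refine ⟨Submodule.fg_def.2 ⟨⋃ k ∈ Finset.range (k₀ + 1), DirectSum.lof R ℕ M k '' (G k : Set (M k)),
      Set.Finite.biUnion (Finset.finite_toSet _) (fun k _ => (G k).finite_toSet.image _),
      eq_top_iff.2 fun d _ => ?_⟩⟩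
    induction d using DirectSum.induction_on with
    | zero => exact zero_mem _
    | of k x => exact hS k x
    | add a b ha hb => exact add_mem (ha trivial) (hb trivial)
  -- stable subsystems
  let N' : Submodule C D :=
    { carrier := {d | ∀ k, DirectSum.component R ℕ M k d ∈ N k}
      zero_mem' := fun k => by rw [map_zero]; exact zero_mem _
      add_mem' := fun ha hb k => by rw [map_add]; exact add_mem (ha k) (hb k)
      smul_mem' := fun c d hd => by
        suffices h : ∀ f : Module.End R D, f ∈ Algebra.adjoin R s → ∀ d, (∀ k, DirectSum.component R ℕ M k d ∈ N k) →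
            ∀ k, DirectSum.component R ℕ M k (f d) ∈ N k from h c.1 c.2 d hd
        intro f hf
        induction hf using Algebra.adjoin_induction with
        | mem f hf =>
          obtain ⟨i, rfl⟩ := hf
          intro d hd k
          cases k with
          | zero => rw [component_shiftEnd_zero]; exact zero_mem _
          | succ k => rw [component_shiftEnd]; exact hN i k ⟨_, hd k, rfl⟩
        | algebraMap r => intro d hd k; rw [Module.algebraMap_end_apply, map_smul]; exact (N k).smul_mem r (hd k)
        | add f g _ _ ihf ihg => intro d hd k; rw [LinearMap.add_apply, map_add]; exact add_mem (ihf d hd k) (ihg d hd k)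
        | mul f g _ _ ihf ihg => intro d hd; exact ihf _ (ihg d hd) }
  obtain ⟨F, hF⟩ := IsNoetherian.noetherian N'
  obtain ⟨k₁, hk₁⟩ : ∃ k₁, ∀ d ∈ F, ∀ k, k₁ ≤ k → DirectSum.component R ℕ M k d = 0 := by
    refine ⟨(F.biUnion fun d => DFinsupp.support d).sup id + 1, fun d hd k hk => ?_⟩
    by_contra h
    have : k ∈ F.biUnion fun d => DFinsupp.support d :=
      Finset.mem_biUnion.2 ⟨d, hd, DFinsupp.mem_support_iff.2 h⟩
    have : k ≤ (F.biUnion fun d => DFinsupp.support d).sup id := Finset.le_sup (f := id) this
    omega
  refine ⟨k₁, fun k hk => le_antisymm (fun x hx => ?_) (iSup_le fun i => hN i k)⟩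
  have hxN : DirectSum.lof R ℕ M (k + 1) x ∈ N' := fun j => by
    rcases eq_or_ne (k + 1) j with rfl | h
    · rwa [DirectSum.component.lof_self]
    · rw [DirectSum.component.of, dif_neg h]; exact zero_mem _
  rw [← hF] at hxN
  have key : ∀ d ∈ Submodule.span C (F : Set D), d ∈ N' ∧ ∀ k, k₁ ≤ k →
      DirectSum.component R ℕ M (k + 1) d ∈ ⨆ i, (N k).map (t i k) := by
    intro d hd
    induction hd using Submodule.span_induction with
    | mem a ha => exact ⟨hF ▸ Submodule.subset_span ha, fun k hk => by rw [hk₁ a ha _ (by omega)]; exact zero_mem _⟩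
    | zero => exact ⟨zero_mem _, fun k _ => by rw [map_zero]; exact zero_mem _⟩
    | add a b _ _ iha ihb => exact ⟨add_mem iha.1 ihb.1, fun k hk => by rw [map_add]; exact add_mem (iha.2 k hk) (ihb.2 k hk)⟩
    | smul c a _ iha =>
      refine ⟨N'.smul_mem c iha.1, ?_⟩
      suffices h : ∀ f : Module.End R D, ∀ hf : f ∈ Algebra.adjoin R s, ∀ d ∈ N',
          (∀ k, k₁ ≤ k → DirectSum.component R ℕ M (k + 1) d ∈ ⨆ i, (N k).map (t i k)) →
          ∀ k, k₁ ≤ k → DirectSum.component R ℕ M (k + 1) (f d) ∈ ⨆ i, (N k).map (t i k) from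
        h c.1 c.2 a iha.1 iha.2
      intro f hf
      induction hf using Algebra.adjoin_induction with
      | mem f hf =>
        obtain ⟨i, rfl⟩ := hf
        intro d hd _ k _
        rw [component_shiftEnd]
        exact Submodule.mem_iSup_of_mem i ⟨_, hd k, rfl⟩
      | algebraMap r => intro d _ hd k hk; rw [Module.algebraMap_end_apply, map_smul]; exact Submodule.smul_mem _ r (hd k hk)
      | add f g _ _ ihf ihg =>
        intro d hdN hd k hk
        rw [LinearMap.add_apply, map_add]
        exact add_mem (ihf d hdN hd k hk) (ihg d hdN hd k hk)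
      | mul f g _ hg ihf ihg =>
        intro d hdN hd k hk
        exact ihf _ (N'.smul_mem (⟨g, hg⟩ : C) hdN) (ihg d hdN hd) k hk
  have := (key _ hxN).2 k hk
  rwa [DirectSum.component.lof_self] at this

end Groth.Agent.FormalFun
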