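import Groth.Agent.FormalFun.Rees
import Groth.Agent.FormalFun.Quot
import Groth.Prelude.Def_Formal2

/-!
# The system of the modules `I^n M`
-/

noncomputable section

universe u

open CategoryTheory Limits AlgebraicGeometry Opposite TopologicalSpace Groth.Agent.QCohBase
open Groth.Agent.CohFinite

namespace Groth.Agent.FormalFun

variable {A : Type u} [CommRing A] {X : Scheme.{u}} [X.Over (Spec (CommRingCat.of A))] (M : X.Modules)

/-- The submodule `J M`. -/
abbrev kI (J : Ideal A) : X.Modules := kernel (qπ M J)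

/-- Its inclusion. -/
abbrev kι (J : Ideal A) : kI M J ⟶ M := kernel.ι (qπ M J)

/-- Lifting multiplication by an element of the ideal. -/
def kLift {J : Ideal A} {a : A} (ha : a ∈ J) : M ⟶ kI M J :=
  kernel.lift _ (Formal.smulMod A M a) (mem_ann.1 (le_ann_qπ M J ha))

@[reassoc]
lemma kLift_ι {J : Ideal A} {a : A} (ha : a ∈ J) : kLift M ha ≫ kι M J = Formal.smulMod A M a :=
  kernel.lift_ι _ _ _

lemma kι_mul_eq_zero {J J' : Ideal A} {a : A} (h : ∀ b ∈ J, a * b ∈ J') :
    kι M J ≫ Formal.smulMod A M a ≫ qπ M J' = 0 := by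
  have hle : J ≤ ann A (Formal.smulMod A M a ≫ qπ M J') := fun b hb => by
    rw [mem_ann, ← Category.assoc, ← smulMod_mul, mem_ann.1 (le_ann_qπ M J' (h b hb))]
  rw [← π_qDesc _ hle, ← Category.assoc, kernel.condition, zero_comp]

/-- Multiplication `J M ⟶ J' M`. -/
def kMul {J J' : Ideal A} (a : A) (h : ∀ b ∈ J, a * b ∈ J') : kI M J ⟶ kI M J' :=
  kernel.lift _ (kι M J ≫ Formal.smulMod A M a) (by rw [Category.assoc, kι_mul_eq_zero M h])

@[reassoc]
lemma kMul_ι {J J' : Ideal A} (a : A) (h : ∀ b ∈ J, a * b ∈ J') :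
    kMul M a h ≫ kι M J' = kι M J ≫ Formal.smulMod A M a := kernel.lift_ι _ _ _

/-- The inclusions. -/
def kIncl {J J' : Ideal A} (h : J ≤ J') : kI M J ⟶ kI M J' :=
  kernel.lift _ (kι M J) (by rw [← π_qTrans M h, ← Category.assoc, kernel.condition, zero_comp])

@[reassoc]
lemma kIncl_ι {J J' : Ideal A} (h : J ≤ J') : kIncl M h ≫ kι M J' = kι M J := kernel.lift_ι _ _ _

lemma idealPowIncl_eq (I : Ideal A) {m n : ℕ} (h : m ≤ n) :
    Formal2.idealPowIncl I h M = kIncl M (Ideal.pow_le_pow_right (I := I) h) :=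
  (cancel_mono (kι M (I ^ m))).1 ((kernel.lift_ι _ _ _).trans (kIncl_ι M _).symm)

/-- The isomorphism for equal ideals. -/
def kIso {J J' : Ideal A} (h : J = J') : kI M J ≅ kI M J' where
  hom := kIncl M h.le
  inv := kIncl M h.ge
  hom_inv_id := by rw [← cancel_mono (kι M J), Category.assoc, kIncl_ι, kIncl_ι, Category.id_comp]
  inv_hom_id := by rw [← cancel_mono (kι M J'), Category.assoc, kIncl_ι, kIncl_ι, Category.id_comp]

lemma kMul_comp {J J' J'' : Ideal A} (a b : A) (h : ∀ c ∈ J, a * c ∈ J') (h' : ∀ c ∈ J', b * c ∈ J'')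
    (h'' : ∀ c ∈ J, b * a * c ∈ J'') : kMul M a h ≫ kMul M b h' = kMul M (b * a) h'' := by
  rw [← cancel_mono (kι M J''), Category.assoc, kMul_ι, kMul_ι_assoc, kMul_ι, smulMod_mul]

lemma kMul_one {J J' : Ideal A} (h : ∀ c ∈ J, 1 * c ∈ J') (h' : J ≤ J') :
    kMul M (1 : A) h = kIncl M h' := by
  rw [← cancel_mono (kι M J'), kMul_ι, kIncl_ι, smulMod_one, Category.comp_id]

lemma kMul_kIncl {J J' J'' : Ideal A} (a : A) (h : ∀ c ∈ J, a * c ∈ J') (h' : J' ≤ J'') (ha : a ∈ J'') :
    kMul M a h ≫ kIncl M h' = kι M J ≫ kLift M ha := by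
  rw [← cancel_mono (kι M J''), Category.assoc, kIncl_ι, kMul_ι, Category.assoc, kLift_ι]

lemma smulMod_ι {J : Ideal A} (a : A) :
    Formal.smulMod A (kI M J) a ≫ kι M J = kι M J ≫ Formal.smulMod A M a :=
  smulMod_naturality _ _

variable {M} [IsLocallyNoetherian X]

lemma isCoh_kI [IsNoetherianRing A] (hM : Coh.IsCoh M) (J : Ideal A) : Coh.IsCoh (kI M J) :=
  isCoh_kernel _ hM (isCoh_Q hM (IsNoetherian.noetherian J)).1

lemma support_kI [IsNoetherianRing A] (hM : Coh.IsCoh M) (J : Ideal A) :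
    CohB1.support (kI M J) ⊆ CohB1.support M := by
  have hS : (ShortComplex.mk (kι M J) (qπ M J) (kernel.condition _)).ShortExact :=
    { exact := ShortComplex.exact_of_f_is_kernel _ (kernelIsKernel _)
      mono_f := inferInstanceAs (Mono (kι M J))
      epi_g := inferInstanceAs (Epi (qπ M J)) }
  exact Set.subset_union_left.trans_eq (support_of_shortExact hS (isCoh_kI hM J).1 hM.1
    (isCoh_Q hM (IsNoetherian.noetherian J)).1).symm

/-- Sections of `J M` over an affine open. -/
lemma mem_iSup_of_qπ_eq_zero {W : X.Opens} (hW : IsAffineOpen W) :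
    ∀ (m : ℕ) (g : Fin m → A) (N : X.Modules) (_ : Coh.IsCoh N) (s : Γ(N, W)),
      (qπ N (Ideal.span (Set.range g))).app W s = 0 →
        s ∈ ⨆ i, LinearMap.range (appL (Formal.smulMod A N (g i)) W) := by
  intro m
  induction m with
  | zero =>
    intro g N hN s hs
    have hb : Ideal.span (Set.range g) = (⊥ : Ideal A) := by
      rw [Set.range_eq_empty g, Ideal.span_empty]
    haveI : IsIso (qπ N (Ideal.span (Set.range g))) := by rw [hb]; exact isIso_qπ_bot N
    rw [show s = 0 from app_injective_of_mono (qπ N (Ideal.span (Set.range g))) W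
      (hs.trans (map_zero ((qπ N (Ideal.span (Set.range g))).app W).hom).symm)]
    exact zero_mem _
  | succ m ih =>
    intro g N hN s hs
    have hspan : Ideal.span {g 0} ⊔ Ideal.span (Set.range (Fin.tail g)) = Ideal.span (Set.range g) := by
      rw [← Ideal.span_union]; congr 1
      rw [← Set.insert_eq, ← Fin.range_cons, Fin.cons_self_tail]
    rw [← hspan] at hs
    obtain ⟨θ, hθ⟩ := exists_qIso N (Ideal.span {g 0}) (Ideal.span (Set.range (Fin.tail g)))
    have hQ : Coh.IsCoh (Q N (Ideal.span {g 0})) := isCoh_Q hN ⟨{g 0}, by simp⟩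
    have h1 := ih (Fin.tail g) _ hQ ((qπ N (Ideal.span {g 0})).app W s) (by
      rw [← Devissage.comp_app_apply, ← hθ, Devissage.comp_app_apply, hs, map_zero])
    let S := ⨆ i, LinearMap.range (appL (Formal.smulMod A N (g i)) W)
    have key : ∀ t ∈ ⨆ i, LinearMap.range
        (appL (Formal.smulMod A (Q N (Ideal.span {g 0})) (Fin.tail g i)) W),
        t ∈ S.map (appL (qπ N (Ideal.span {g 0})) W) := by
      intro t ht
      refine SetLike.le_def.mp (iSup_le fun i => ?_) ht
      rintro _ ⟨c, rfl⟩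
      obtain ⟨c', rfl⟩ := app_surjective_of_epi (qπ N (Ideal.span {g 0})) hN.1 hQ.1 hW c
      refine ⟨(Formal.smulMod A N (g i.succ)).app W c', Submodule.mem_iSup_of_mem i.succ ⟨c', rfl⟩, ?_⟩
      rw [appL_apply, appL_apply, ← Devissage.comp_app_apply, ← Devissage.comp_app_apply, smulMod_naturality]
      rfl
    obtain ⟨s', hs', hss⟩ := key _ h1
    rw [appL_apply] at hss
    have hd : (qπ N (Ideal.span {g 0})).app W (s - s') = 0 := by rw [map_sub, hss, sub_self]
    have hle : Ideal.span {g 0} ≤ ann A (cokernel.π (Formal.smulMod A N (g 0))) :=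
      (Ideal.span_singleton_le_iff_mem _).2 (mem_ann.2 (cokernel.condition _))
    have hd' : (cokernel.π (Formal.smulMod A N (g 0))).app W (s - s') = 0 := by
      rw [← π_qDesc _ hle, Devissage.comp_app_apply, hd, map_zero]
    obtain ⟨v, hv⟩ := sections_exact_left
      (T := ShortComplex.mk (Abelian.image.ι (Formal.smulMod A N (g 0)))
        (cokernel.π (Formal.smulMod A N (g 0))) (kernel.condition _))
      (ShortComplex.exact_of_f_is_kernel _ (kernelIsKernel _)) (s - s') hd'
    obtain ⟨c, rfl⟩ := app_surjective_of_epi (Abelian.factorThruImage (Formal.smulMod A N (g 0))) hN.1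
      (isQuasicoherent_kernel _ hN.1 (isCoh_cokernel (Formal.smulMod A N (g 0)) hN.1 hN).1) hW v
    rw [← sub_add_cancel s s']
    refine add_mem (Submodule.mem_iSup_of_mem 0 ⟨c, ?_⟩) hs'
    rw [appL_apply, ← hv]
    dsimp only
    rw [← Devissage.comp_app_apply, Abelian.image.fac]

lemma mem_iSup_of_qπ_eq_zero' (hM : Coh.IsCoh M) {J : Ideal A} (hJ : J.FG) {W : X.Opens}
    (hW : IsAffineOpen W) (s : Γ(M, W)) (hs : (qπ M J).app W s = 0) :
    s ∈ ⨆ b : J, LinearMap.range (appL (Formal.smulMod A M (b : A)) W) := by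
  obtain ⟨n, g, hg⟩ := Submodule.fg_iff_exists_fin_generating_family.1 hJ
  subst hg
  exact (iSup_le fun i => le_iSup (fun b : Ideal.span (Set.range g) =>
    LinearMap.range (appL (Formal.smulMod A M (b : A)) W)) ⟨g i, Ideal.subset_span ⟨i, rfl⟩⟩)
    (mem_iSup_of_qπ_eq_zero hW n g M hM s hs)

variable (M) {r : ℕ} {I : Ideal A} (g : Fin r → A)

omit [IsLocallyNoetherian X] in
lemma mul_mem_pow_succ {a : A} (ha : a ∈ I) (k : ℕ) : ∀ b ∈ I ^ k, a * b ∈ I ^ (k + 1) :=
  fun b hb => by rw [pow_succ, mul_comm a b]; exact Ideal.mul_mem_mul hb ha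

/-- The transition maps of the system. -/
def powT (hg : ∀ i, g i ∈ I) (i : Fin r) (k : ℕ) : kI M (I ^ k) ⟶ kI M (I ^ (k + 1)) :=
  kMul M (g i) (mul_mem_pow_succ (hg i) k)

omit [IsLocallyNoetherian X] in
lemma powT_comm (hg : ∀ i, g i ∈ I) (i l : Fin r) (k : ℕ) :
    powT M g hg l k ≫ powT M g hg i (k + 1) = powT M g hg i k ≫ powT M g hg l (k + 1) := by
  rw [← cancel_mono (kι M (I ^ (k + 1 + 1)))]
  simp only [powT, Category.assoc, kMul_ι, kMul_ι_assoc]
  rw [← smulMod_mul, ← smulMod_mul, mul_comm]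

lemma appL_ι_powT (hg : ∀ i, g i ∈ I) (i : Fin r) (k : ℕ) {W : X.Opens} (v : Γ(kI M (I ^ k), W)) :
    (kι M (I ^ (k + 1))).app W ((powT M g hg i k).app W v) =
      (Formal.smulMod A M (g i)).app W ((kι M (I ^ k)).app W v) := by
  rw [← Devissage.comp_app_apply, ← Devissage.comp_app_apply, powT, kMul_ι]

variable {M}

/-- The system is generated on affine opens. -/
lemma secGen_powT [IsNoetherianRing A] (hM : Coh.IsCoh M) (hg : ∀ i, g i ∈ I)
    (hspan : Ideal.span (Set.range g) = I) {κ : Type u} (W : κ → X.Opens) (hW : ∀ j, IsAffineOpen (W j)) :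
    SecGen (M := fun k => kI M (I ^ k)) (powT M g hg) W := fun j => by
  refine ⟨0, fun k _ => le_antisymm (fun x _ => ?_) le_top⟩
  dsimp only
  let S := (⨆ i, (⊤ : Submodule Γ(X, W j) Γ(kI M (I ^ k), W j)).map (appL (powT M g hg i k) (W j))).map
    (appL (kι M (I ^ (k + 1))) (W j))
  have hb : ∀ b ∈ I ^ (k + 1), ∀ c, (Formal.smulMod A M b).app (W j) c ∈ S := by
    intro b hb
    rw [pow_succ] at hb
    refine Submodule.mul_induction_on hb (fun a ha y hy c => ?_) (fun b b' h h' c => ?_)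
    · have h0 : (qπ M (I ^ k)).app (W j) ((Formal.smulMod A M a).app (W j) c) = 0 := by
        rw [← Devissage.comp_app_apply, mem_ann.1 (le_ann_qπ M _ ha)]
        rfl
      obtain ⟨v, hv⟩ := sections_exact_left
        (T := ShortComplex.mk (kι M (I ^ k)) (qπ M (I ^ k)) (kernel.condition _))
        (ShortComplex.exact_of_f_is_kernel _ (kernelIsKernel _)) _ h0
      rw [mul_comm, smulMod_mul, Devissage.comp_app_apply, ← hv]
      dsimp only
      clear hv h0
      rw [← hspan] at hy
      revert v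
      refine Submodule.span_induction (p := fun y _ => ∀ v : Γ(kI M (I ^ k), W j),
        (Formal.smulMod A M y).app (W j) ((kι M (I ^ k)).app (W j) v) ∈ S) ?_ ?_ ?_ ?_ hy
      · rintro _ ⟨i, rfl⟩ v
        exact ⟨(powT M g hg i k).app (W j) v, Submodule.mem_iSup_of_mem i ⟨v, trivial, rfl⟩,
          appL_ι_powT M g hg i k v⟩
      · intro v
        rw [smulMod_zero]
        exact zero_mem S
      · intro y y' _ _ h h' v
        rw [smulMod_add, Scheme.Modules.Hom.add_app]
        exact add_mem (h v) (h' v)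
      · intro d y _ h v
        have e : (Formal.smulMod A M d).app (W j) ((kι M (I ^ k)).app (W j) v) =
            (kι M (I ^ k)).app (W j) ((Formal.smulMod A (kI M (I ^ k)) d).app (W j) v) := by
          rw [← Devissage.comp_app_apply, ← Devissage.comp_app_apply, smulMod_ι]
        rw [smul_eq_mul, mul_comm, smulMod_mul, Devissage.comp_app_apply, e]
        exact h _
    · rw [smulMod_add, Scheme.Modules.Hom.add_app]
      exact add_mem (h c) (h' c)
  have hx : (kι M (I ^ (k + 1))).app (W j) x ∈ S := by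
    have h0 : (qπ M (I ^ (k + 1))).app (W j) ((kι M (I ^ (k + 1))).app (W j) x) = 0 := by
      rw [← Devissage.comp_app_apply, kernel.condition]
      rfl
    refine SetLike.le_def.mp (iSup_le fun b : ↥(I ^ (k + 1)) => ?_) (mem_iSup_of_qπ_eq_zero' hM
      (IsNoetherian.noetherian _) (hW j) _ h0)
    rintro _ ⟨c, rfl⟩
    exact hb b b.2 c
  obtain ⟨y, hy, hyx⟩ := hx
  exact app_injective_of_mono (kι M (I ^ (k + 1))) (W j) hyx ▸ hy

variable [IsNoetherianRing A] [CompactSpace X]

/-- Cohomology of the system is generated. -/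
theorem hGen_powT (hM : Coh.IsCoh M) (hfin : FiniteOn A (CohB1.support M)) (hg : ∀ i, g i ∈ I)
    (hspan : Ideal.span (Set.range g) = I) (p : ℕ) :
    HGen A (M := fun k => kI M (I ^ k)) (powT M g hg) p := by
  obtain ⟨κ, hκ, W, hW, -, hcov⟩ :=
    exists_finite_affine_cover (X := X) (V := ⊤) (CompactSpace.isCompact_univ)
  haveI := hκ
  exact hGen_of_secGen hfin W hW (fun x => Opens.mem_iSup.1 (hcov (Opens.mem_top x))) r _ _
    (powT_comm M g hg) (fun k => isCoh_kI hM _) (fun k => support_kI hM _)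
    (secGen_powT g hM hg hspan W hW) p

/-- The kernels into `H^p(M)` are generated as well. -/
theorem evGen_ker (hM : Coh.IsCoh M) (hfin : FiniteOn A (CohB1.support M)) (hg : ∀ i, g i ∈ I)
    (hspan : Ideal.span (Set.range g) = I) (p : ℕ) :
    EvGen (R := A) (fun k => Coh.HH X (kI M (I ^ k)) p) (fun i k => hhMap A (powT M g hg i k) p)
      fun k => LinearMap.ker (hhMap A (kι M (I ^ k)) p) :=
  evGen_of_le (R := A) _ (fun k => hfin _ (isCoh_kI hM _) (support_kI hM _) p)
    (fun i l k x => by rw [← hhMap_comp, ← hhMap_comp, powT_comm])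
    (hGen_powT g hM hfin hg hspan p) _ (fun i k => by
      rintro _ ⟨x, hx, rfl⟩
      rw [SetLike.mem_coe, LinearMap.mem_ker] at hx
      rw [LinearMap.mem_ker, ← hhMap_comp, powT, kMul_ι, hhMap_comp, hx, map_zero])

end Groth.Agent.FormalFun
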