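import Groth.Agent.FormalFun.Basic
import Groth.Agent.FormalFun.GradedGen
import Groth.Agent.QCohBase.Noetherian
import Groth.Agent.Devissage.General

/-!
# Cohomology of eventually generated systems of coherent modules
-/

noncomputable section

universe u

open CategoryTheory Limits AlgebraicGeometry Opposite TopologicalSpace Groth.Agent.QCohBase
open Groth.Agent.CohFinite

namespace Groth.Agent.FormalFun

variable {A : Type u} [CommRing A] {X : Scheme.{u}} [X.Over (Spec (CommRingCat.of A))]

variable {r : ℕ} {M : ℕ → X.Modules} (t : Fin r → ∀ k, M k ⟶ M (k + 1))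

/-- Sections over the given opens are eventually generated. -/
def SecGen {κ : Type u} (W : κ → X.Opens) : Prop :=
  ∀ j, EvGen (R := Γ(X, W j)) (fun k => Γ(M k, W j)) (fun i k => appL (t i k) (W j)) fun _ => ⊤

variable (A) in
/-- Cohomology is eventually generated. -/
def HGen (p : ℕ) : Prop :=
  EvGen (R := A) (fun k => Coh.HH X (M k) p) (fun i k => hhMap A (t i k) p) fun _ => ⊤

variable [IsNoetherianRing A] [IsLocallyNoetherian X]

set_option maxHeartbeats 1600000 in
theorem hGen_of_secGen {T : Set X} (hfin : FiniteOn (X := X) A T) {κ : Type u} [Finite κ]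
    (W : κ → X.Opens) (hW : ∀ j, IsAffineOpen (W j)) (hcov : ∀ x, ∃ j, x ∈ W j) :
    ∀ (r : ℕ) (M : ℕ → X.Modules) (t : Fin r → ∀ k, M k ⟶ M (k + 1)),
      (∀ i l k, t l k ≫ t i (k + 1) = t i k ≫ t l (k + 1)) → (∀ k, Coh.IsCoh (M k)) →
      (∀ k, CohB1.support (M k) ⊆ T) → SecGen t W → ∀ p, HGen A t p := by
  classical
  intro r
  induction r with
  | zero =>
    intro M t _ hM _ hgen p
    choose k₀ hk₀ using hgen
    obtain ⟨c, hc⟩ := Finite.bddAbove_range k₀
    refine ⟨c, fun k hk => Eq.symm (eq_top_iff.2 fun x _ => ?_)⟩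
    haveI := (hM (k + 1)).1
    have hz : IsZero (M (k + 1)) := isZero_of_sections W hW hcov fun j => by
      refine subsingleton_of_forall_eq 0 fun s => ?_
      have h := hk₀ j k ((hc ⟨j, rfl⟩).trans hk)
      dsimp only at h
      rw [iSup_of_empty] at h
      have hs : s ∈ (⊤ : Submodule Γ(X, W j) Γ(M (k + 1), W j)) := Submodule.mem_top
      rw [h, Submodule.mem_bot] at hs
      exact hs
    rw [hh_eq_zero_of_isZero hz x]
    exact zero_mem _
  | succ r ih =>
    intro M t hcomm hM hsupp hgen p
    haveI := fun k => (hM k).1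
    -- the quotient, the kernel, the image
    let C : ℕ → X.Modules := fun k => cokernel (t 0 k)
    let q : ∀ k, M (k + 1) ⟶ C k := fun k => cokernel.π (t 0 k)
    let K : ℕ → X.Modules := fun k => kernel (t 0 k)
    let tC : Fin r → ∀ k, C k ⟶ C (k + 1) := fun i k =>
      cokernel.map (t 0 k) (t 0 (k + 1)) (t i.succ k) (t i.succ (k + 1)) (hcomm _ _ _)
    let tK : Fin r → ∀ k, K k ⟶ K (k + 1) := fun i k =>
      kernel.map (t 0 k) (t 0 (k + 1)) (t i.succ k) (t i.succ (k + 1)) (hcomm _ _ _)
    let tI : Fin r → ∀ k, Abelian.image (t 0 k) ⟶ Abelian.image (t 0 (k + 1)) := fun i k =>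
      kernel.map (cokernel.π (t 0 k)) (cokernel.π (t 0 (k + 1))) (t i.succ (k + 1)) (tC i k)
        (cokernel.π_desc _ _ _)
    have hqC : ∀ i k, q k ≫ tC i k = t i.succ (k + 1) ≫ q (k + 1) := fun i k => cokernel.π_desc _ _ _
    have hιK : ∀ i k, tK i k ≫ kernel.ι (t 0 (k + 1)) = kernel.ι (t 0 k) ≫ t i.succ k :=
      fun i k => kernel.lift_ι _ _ _
    have hιI : ∀ i k, tI i k ≫ Abelian.image.ι (t 0 (k + 1)) = Abelian.image.ι (t 0 k) ≫ t i.succ (k + 1) :=
      fun i k => kernel.lift_ι _ _ _
    have heI : ∀ i k, Abelian.factorThruImage (t 0 k) ≫ tI i k =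
        t i.succ k ≫ Abelian.factorThruImage (t 0 (k + 1)) := fun i k => by
      rw [← cancel_mono (Abelian.image.ι (t 0 (k + 1))), Category.assoc, hιI, ← Category.assoc,
        Abelian.image.fac, Category.assoc, Abelian.image.fac]
      exact hcomm _ _ _
    have hCc : ∀ k, Coh.IsCoh (C k) := fun k => isCoh_cokernel (t 0 k) (hM k).1 (hM (k + 1))
    have hKc : ∀ k, Coh.IsCoh (K k) := fun k => isCoh_kernel (t 0 k) (hM k) (hM (k + 1)).1
    have hCs : ∀ k, CohB1.support (C k) ⊆ T := fun k =>
      (support_subset_of_epi (q k) (hM (k + 1)) (hCc k).1).trans (hsupp (k + 1))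
    have hz₁ : ∀ k, kernel.ι (t 0 k) ≫ Abelian.factorThruImage (t 0 k) = 0 := fun k => by
      rw [← cancel_mono (Abelian.image.ι (t 0 k)), Category.assoc, Abelian.image.fac, kernel.condition,
        zero_comp]
    have hS₁ : ∀ k, (ShortComplex.mk (kernel.ι (t 0 k)) (Abelian.factorThruImage (t 0 k)) (hz₁ k)).ShortExact :=
      fun k =>
      { exact := ShortComplex.exact_of_f_is_kernel _ (KernelFork.IsLimit.ofι _ _
          (fun {W'} a ha => kernel.lift _ a (by
            rw [← Abelian.image.fac (t 0 k), ← Category.assoc, ha, zero_comp]))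
          (fun a ha => kernel.lift_ι _ _ _)
          (fun a ha b hb => by rw [← cancel_mono (kernel.ι (t 0 k)), hb, kernel.lift_ι]))
        mono_f := inferInstanceAs (Mono (kernel.ι (t 0 k)))
        epi_g := inferInstanceAs (Epi (Abelian.factorThruImage (t 0 k))) }
    have hS₂ : ∀ k, (ShortComplex.mk (Abelian.image.ι (t 0 k)) (q k) (kernel.condition _)).ShortExact :=
      fun k =>
      { exact := ShortComplex.exact_of_f_is_kernel _ (kernelIsKernel _)
        mono_f := inferInstanceAs (Mono (Abelian.image.ι (t 0 k)))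
        epi_g := inferInstanceAs (Epi (q k)) }
    have hKs : ∀ k, CohB1.support (K k) ⊆ T := fun k => by
      have h := support_of_shortExact (hS₁ k) (hKc k).1 (hM k).1
        (isQuasicoherent_kernel _ (hM (k + 1)).1 (hCc k).1)
      exact (Set.subset_union_left.trans_eq h.symm).trans (hsupp k)
    have hCgen : SecGen tC W := fun j => by
      obtain ⟨k₀, hk₀⟩ := hgen j
      refine ⟨k₀, fun k hk => le_antisymm (fun x hx => ?_) le_top⟩
      dsimp only
      obtain ⟨s, rfl⟩ := app_surjective_of_epi (q (k + 1)) (hM (k + 1 + 1)).1 (hCc (k + 1)).1 (hW j) x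
      have hs : s ∈ ⨆ i, (⊤ : Submodule Γ(X, W j) _).map (appL (t i (k + 1)) (W j)) :=
        (hk₀ (k + 1) (hk.trans k.le_succ)).le Submodule.mem_top
      clear hx
      induction hs using Submodule.iSup_induction' with
      | mem i b hb =>
        obtain ⟨v, -, rfl⟩ := hb
        cases i using Fin.cases with
        | zero =>
          have : (q (k + 1)).app (W j) ((t 0 (k + 1)).app (W j) v) = 0 := by
            rw [← Devissage.comp_app_apply, cokernel.condition]
            rfl
          rw [appL_apply, this]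
          exact zero_mem _
        | succ i =>
          refine Submodule.mem_iSup_of_mem i ⟨(q k).app (W j) v, trivial, ?_⟩
          rw [appL_apply, appL_apply, ← Devissage.comp_app_apply, hqC, Devissage.comp_app_apply]
      | zero => rw [map_zero]; exact zero_mem _
      | add a b _ _ iha ihb => rw [map_add]; exact add_mem iha ihb
    have hKgen : SecGen tK W := fun j => by
      haveI := isNoetherianRing_sections (hW j)
      obtain ⟨k₀, hk₀⟩ := evGen_of_le (R := Γ(X, W j))
        (fun i k => appL (t i k) (W j))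
        (hfin := fun k => isFiniteType_toFinite (hM k) (hW j))
        (hcomm := fun i l k x => by
          rw [appL_apply, appL_apply, appL_apply, appL_apply, ← Devissage.comp_app_apply,
            ← Devissage.comp_app_apply, hcomm])
        (hgen := hgen j) (N := fun k => LinearMap.ker (appL (t 0 k) (W j)))
        (hN := fun i k => by
          rintro _ ⟨x, hx, rfl⟩
          rw [SetLike.mem_coe, LinearMap.mem_ker, appL_apply] at hx
          rw [LinearMap.mem_ker, appL_apply, appL_apply, ← Devissage.comp_app_apply, hcomm,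
            Devissage.comp_app_apply, hx, map_zero])
      refine ⟨k₀, fun k hk => le_antisymm (fun x _ => ?_) le_top⟩
      dsimp only
      have hx : (kernel.ι (t 0 (k + 1))).app (W j) x ∈ LinearMap.ker (appL (t 0 (k + 1)) (W j)) := by
        rw [LinearMap.mem_ker, appL_apply, ← Devissage.comp_app_apply, kernel.condition]
        rfl
      replace hx := (hk₀ k hk).le hx
      have key : ∀ y ∈ ⨆ i, (LinearMap.ker (appL (t 0 k) (W j))).map (appL (t i k) (W j)),
          y ∈ (⨆ i, (⊤ : Submodule Γ(X, W j) _).map (appL (tK i k) (W j))).map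
            (appL (kernel.ι (t 0 (k + 1))) (W j)) := by
        intro y hy
        induction hy using Submodule.iSup_induction' with
        | mem i b hb =>
          obtain ⟨v, hv, rfl⟩ := hb
          rw [SetLike.mem_coe, LinearMap.mem_ker, appL_apply] at hv
          cases i using Fin.cases with
          | zero => rw [appL_apply, hv]; exact zero_mem _
          | succ i =>
            obtain ⟨v', rfl⟩ := sections_exact_left
              (T := ShortComplex.mk (kernel.ι (t 0 k)) (t 0 k) (kernel.condition _))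
              (ShortComplex.exact_of_f_is_kernel _ (kernelIsKernel _)) v hv
            refine ⟨(tK i k).app (W j) v', Submodule.mem_iSup_of_mem i ⟨v', trivial, rfl⟩, ?_⟩
            rw [appL_apply, appL_apply, ← Devissage.comp_app_apply, hιK, Devissage.comp_app_apply]
        | zero => exact zero_mem _
        | add a b _ _ iha ihb => exact add_mem iha ihb
      obtain ⟨y, hy, hyx⟩ := key _ hx
      obtain rfl : y = x := app_injective_of_mono (kernel.ι (t 0 (k + 1))) (W j) hyx
      exact hy
    have hcC : ∀ i l k, tC l k ≫ tC i (k + 1) = tC i k ≫ tC l (k + 1) := fun i l k => by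
      rw [← cancel_epi (q k), reassoc_of% hqC, hqC, reassoc_of% hqC, hqC, reassoc_of% hcomm]
    have hcK : ∀ i l k, tK l k ≫ tK i (k + 1) = tK i k ≫ tK l (k + 1) := fun i l k => by
      rw [← cancel_mono (kernel.ι (t 0 (k + 1 + 1))), Category.assoc, Category.assoc, hιK, hιK,
        reassoc_of% hιK, reassoc_of% hιK, hcomm]
    -- stable submodules of the cohomology of the quotient and of the kernel
    have hNq : EvGen (R := A) (fun k => Coh.HH X (C k) p) (fun i k => hhMap A (tC i k) p)
        fun k => LinearMap.range (hhMap A (q k) p) :=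
      evGen_of_le (R := A) _ (fun k => hfin _ (hCc k) (hCs k) p)
        (fun i l k x => by rw [← hhMap_comp, ← hhMap_comp, hcC])
        (ih C tC hcC hCc hCs hCgen p) _ (fun i k => by
          rintro _ ⟨_, ⟨y, rfl⟩, rfl⟩
          exact ⟨hhMap A (t i.succ (k + 1)) p y, by rw [← hhMap_comp, ← hhMap_comp, hqC]⟩)
    let φ : ∀ (i : Fin r) k, ShortComplex.mk (kernel.ι (t 0 k)) (Abelian.factorThruImage (t 0 k)) (hz₁ k) ⟶
        ShortComplex.mk (kernel.ι (t 0 (k + 1))) (Abelian.factorThruImage (t 0 (k + 1))) (hz₁ (k + 1)) :=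
      fun i k => ShortComplex.homMk (tK i k) (t i.succ k) (tI i k) (hιK i k) (heI i k).symm
    have hNδ : EvGen (R := A) (fun k => Coh.HH X (K k) (p + 1)) (fun i k => hhMap A (tK i k) (p + 1))
        fun k => LinearMap.range (hhDelta A (hS₁ k) p) :=
      evGen_of_le (R := A) _ (fun k => hfin _ (hKc k) (hKs k) (p + 1))
        (fun i l k x => by rw [← hhMap_comp, ← hhMap_comp, hcK])
        (ih K tK hcK hKc hKs hKgen (p + 1)) _ (fun i k => by
          rintro _ ⟨_, ⟨y, rfl⟩, rfl⟩
          exact ⟨hhMap A (tI i k) p y, hhDelta_naturality (hS₁ k) (hS₁ (k + 1)) (φ i k) p y⟩)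
    obtain ⟨k₁, hk₁⟩ := hNq
    obtain ⟨k₂, hk₂⟩ := hNδ
    refine ⟨max k₁ k₂ + 1, fun k hk => Eq.symm (eq_top_iff.2 fun x _ => ?_)⟩
    obtain ⟨k, rfl⟩ : ∃ l, k = l + 1 := ⟨k - 1, by omega⟩
    let S := ⨆ i, (⊤ : Submodule A _).map (hhMap A (t i (k + 1)) p)
    have hImg : LinearMap.range (hhMap A (Abelian.image.ι (t 0 (k + 1))) p) ≤ S := by
      rintro _ ⟨w, rfl⟩
      have hw : hhDelta A (hS₁ (k + 1)) p w ∈
          ⨆ i, (LinearMap.range (hhDelta A (hS₁ k) p)).map (hhMap A (tK i k) (p + 1)) :=
        (hk₂ k (by omega)).le (LinearMap.mem_range_self _ w)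
      have key : ∀ v ∈ ⨆ i, (LinearMap.range (hhDelta A (hS₁ k) p)).map (hhMap A (tK i k) (p + 1)),
          ∃ w', hhDelta A (hS₁ (k + 1)) p w' = v ∧ hhMap A (Abelian.image.ι (t 0 (k + 1))) p w' ∈ S := by
        intro v hv
        induction hv using Submodule.iSup_induction' with
        | mem i b hb =>
          obtain ⟨_, ⟨z, rfl⟩, rfl⟩ := hb
          refine ⟨hhMap A (tI i k) p z, hhDelta_naturality (hS₁ k) (hS₁ (k + 1)) (φ i k) p z, ?_⟩
          rw [← hhMap_comp, hιI, hhMap_comp]
          exact Submodule.mem_iSup_of_mem i.succ ⟨_, trivial, rfl⟩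
        | zero => exact ⟨0, map_zero _, by rw [map_zero]; exact zero_mem _⟩
        | add a b _ _ iha ihb =>
          obtain ⟨a', rfl, ha⟩ := iha
          obtain ⟨b', rfl, hb⟩ := ihb
          exact ⟨a' + b', map_add _ _ _, by rw [map_add]; exact add_mem ha hb⟩
      obtain ⟨w', hw', hw'S⟩ := key _ hw
      obtain ⟨v, hv⟩ := (hhDelta_ker_eq_range (A := A) (hS₁ (k + 1)) p).ge
        (LinearMap.mem_ker.2 (show hhDelta A (hS₁ (k + 1)) p (w - w') = 0 by rw [map_sub, hw', sub_self]))
      rw [← sub_add_cancel w w', map_add]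
      refine add_mem ?_ hw'S
      rw [← hv]
      erw [← hhMap_comp, Abelian.image.fac]
      exact Submodule.mem_iSup_of_mem 0 ⟨v, trivial, rfl⟩
    have hq : hhMap A (q (k + 1)) p x ∈ ⨆ i, (LinearMap.range (hhMap A (q k) p)).map (hhMap A (tC i k) p) :=
      (hk₁ k (by omega)).le (LinearMap.mem_range_self _ x)
    have key : ∀ v ∈ ⨆ i, (LinearMap.range (hhMap A (q k) p)).map (hhMap A (tC i k) p),
        ∃ x' ∈ S, hhMap A (q (k + 1)) p x' = v := by
      intro v hv
      induction hv using Submodule.iSup_induction' with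
      | mem i b hb =>
        obtain ⟨_, ⟨z, rfl⟩, rfl⟩ := hb
        refine ⟨hhMap A (t i.succ (k + 1)) p z, Submodule.mem_iSup_of_mem i.succ ⟨z, trivial, rfl⟩, ?_⟩
        rw [← hhMap_comp, ← hhMap_comp, hqC]
      | zero => exact ⟨0, zero_mem _, map_zero _⟩
      | add a b _ _ iha ihb =>
        obtain ⟨a', ha, rfl⟩ := iha
        obtain ⟨b', hb, rfl⟩ := ihb
        exact ⟨a' + b', add_mem ha hb, map_add _ _ _⟩
    obtain ⟨x', hx'S, hx'⟩ := key _ hq
    rw [← sub_add_cancel x x']
    refine add_mem (hImg ?_) hx'S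
    refine (hhMap_range_eq_ker (A := A) (hS₂ (k + 1)) p).ge (LinearMap.mem_ker.2 ?_)
    show hhMap A (q (k + 1)) p (x - x') = 0
    rw [map_sub, hx', sub_self]

end Groth.Agent.FormalFun
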