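import Groth.Prelude.Def_CAlg2
import Mathlib.FieldTheory.PurelyInseparable.Basic
import Mathlib.FieldTheory.Galois.Basic
import Mathlib.RingTheory.Norm.Basic
import Mathlib.FieldTheory.Normal.Closure
import Mathlib.RingTheory.Spectrum.Maximal.Basic
import Mathlib.RingTheory.LocalRing.RingHom.Basic
import Mathlib.RingTheory.Ideal.GoingUp
import Mathlib.RingTheory.Norm.Transitivity
import Mathlib.RingTheory.Polynomial.SeparableDegree
import Mathlib.FieldTheory.SeparableClosure

/-!
# Maximal ideals of integral closures over unibranch local domains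
-/

universe u

namespace Groth.Agent.FormalFun

/-- the normalization of a unibranch domain is local, for any choice of fraction field -/
theorem isLocalRing_integralClosure {A K : Type u} [CommRing A] [IsDomain A] [IsLocalRing A]
    (hA : CAlg2.IsUnibranch A) [Field K] [Algebra A K] [IsFractionRing A K] :
    IsLocalRing (integralClosure A K) := by
  obtain ⟨hdom, hloc⟩ := hA
  let e : A ≃+* CAlg2.red A :=
    ((RingEquiv.quotientBot A).symm.trans (Ideal.quotEquivOfEq (nilradical_eq_zero A).symm))
  let E : K ≃+* FractionRing (CAlg2.red A) := IsFractionRing.ringEquivOfRingEquiv e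
  have hE : ∀ a, E (algebraMap A K a) = algebraMap _ _ (e a) := fun a =>
    IsFractionRing.ringEquivOfRingEquiv_algebraMap e a
  have hmem : ∀ x, IsIntegral A x ↔ IsIntegral (CAlg2.red A) (E x) := fun x => by
    constructor
    · exact fun h => h.map_of_comp_eq e.toRingHom E.toRingHom (RingHom.ext fun a => (hE a).symm)
    · intro h
      have := h.map_of_comp_eq e.symm.toRingHom E.symm.toRingHom (RingHom.ext fun a => by
        refine E.injective ?_
        show E (algebraMap A _ (e.symm a)) = E (E.symm _)
        rw [hE, RingEquiv.apply_symm_apply, RingEquiv.apply_symm_apply])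
      simpa using this
  let φ : integralClosure A K ≃+* CAlg2.normRed A :=
    { toFun := fun x => ⟨E x, (hmem _).1 x.2⟩
      invFun := fun y => ⟨E.symm y, (hmem _).2 (by rw [RingEquiv.apply_symm_apply]; exact y.2)⟩
      left_inv := fun x => Subtype.ext (E.symm_apply_apply _)
      right_inv := fun y => Subtype.ext (E.apply_symm_apply _)
      map_mul' := fun x y => Subtype.ext (map_mul E _ _)
      map_add' := fun x y => Subtype.ext (map_add E _ _) }
  exact φ.symm.isLocalRing

/-- maximal ideals of the integral closure in a finite separable extension -/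
lemma exists_injection_algHom {O K L : Type u} [CommRing O] [Field K] [Algebra O K]
    [IsLocalRing (integralClosure O K)] [Field L] [Algebra K L] [Algebra O L] [IsScalarTower O K L]
    [FiniteDimensional K L] [Algebra.IsSeparable K L] :
    ∃ (M : Type u) (_ : Field M) (_ : Algebra K M) (g : MaximalSpectrum (integralClosure O L) → (L →ₐ[K] M)),
      Function.Injective g := by
  classical
  let M := IntermediateField.normalClosure K L (AlgebraicClosure L)
  haveI : Normal K M := normalClosure.normal K L (AlgebraicClosure L)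
  haveI : FiniteDimensional K M := normalClosure.is_finiteDimensional K L (AlgebraicClosure L)
  haveI : Algebra.IsSeparable K M := (le_separableClosure_iff K (AlgebraicClosure L) _).1 (by
    refine iSup_le fun φ => ?_
    rintro _ ⟨x, rfl⟩
    exact mem_separableClosure_iff.2 ((Algebra.IsSeparable.isSeparable K x).map φ φ.injective))
  haveI : IsGalois K M := ⟨⟩
  haveI : IsScalarTower O K M := IsScalarTower.of_algebraMap_eq fun a => Subtype.ext
    (IsScalarTower.algebraMap_apply O K (AlgebraicClosure L) a)
  let BK := integralClosure O K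
  let BM := integralClosure O M
  let jK : BK →+* BM := ((algebraMap K M).comp BK.val.toRingHom).codRestrict BM fun x =>
    IsIntegral.map (IsScalarTower.toAlgHom O K M) x.2
  letI := jK.toAlgebra
  haveI : IsScalarTower O BK BM := IsScalarTower.of_algebraMap_eq fun a => Subtype.ext
    (IsScalarTower.algebraMap_apply O K M a)
  haveI : Algebra.IsIntegral BK BM := Algebra.IsIntegral.tower_top O
  obtain ⟨P0, hP0⟩ := Ideal.exists_maximal BM
  have hcomap : ∀ P : Ideal BM, P.IsMaximal → P.comap (algebraMap BK BM) = IsLocalRing.maximalIdeal BK := fun P hP =>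
    IsLocalRing.eq_maximalIdeal (Ideal.isMaximal_comap_of_isIntegral_of_isMaximal P)
  -- transitivity
  have htrans : ∀ P : Ideal BM, P.IsMaximal → ∃ σ : M ≃ₐ[K] M, ∀ x : BM,
      x ∈ P ↔ (⟨σ x.1, IsIntegral.map (σ.toAlgHom.restrictScalars O) x.2⟩ : BM) ∈ P0 := by
    intro P hP
    let act : (M ≃ₐ[K] M) → (BM →+* BM) := fun σ =>
      ((σ.toAlgHom.restrictScalars O).toRingHom.comp BM.val.toRingHom).codRestrict BM fun x =>
        IsIntegral.map (σ.toAlgHom.restrictScalars O) x.2
    have hsub : (P : Set BM) ⊆ ⋃ σ ∈ ((Finset.univ : Finset (M ≃ₐ[K] M)) : Set (M ≃ₐ[K] M)), (P0.comap (act σ) : Set BM) := by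
      intro x hx
      have hN : IsIntegral O (Algebra.norm K x.1) := Algebra.isIntegral_norm K x.2
      have hprod : jK ⟨_, hN⟩ = ∏ σ : M ≃ₐ[K] M, act σ x := by
        refine Subtype.ext ?_
        rw [SubmonoidClass.coe_finset_prod]
        exact Algebra.norm_eq_prod_automorphisms K x.1
      have hmemP : jK ⟨_, hN⟩ ∈ P := by
        rw [hprod, ← Finset.mul_prod_erase Finset.univ _ (Finset.mem_univ (1 : M ≃ₐ[K] M))]
        refine Ideal.mul_mem_right _ _ ?_
        rw [show act 1 x = x from Subtype.ext rfl]
        exact hx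
      have h1 : (⟨_, hN⟩ : BK) ∈ IsLocalRing.maximalIdeal BK := by rw [← hcomap P hP]; exact hmemP
      rw [← hcomap P0 hP0] at h1
      have h2 : ∏ σ : M ≃ₐ[K] M, act σ x ∈ P0 := hprod ▸ h1
      obtain ⟨σ, -, hσ⟩ := (hP0.isPrime.prod_mem_iff).1 h2
      exact Set.mem_iUnion₂.2 ⟨σ, Finset.mem_coe.2 (Finset.mem_univ σ), hσ⟩
    obtain ⟨σ, -, hle⟩ := (Ideal.subset_union_prime (1 : M ≃ₐ[K] M) 1 fun σ _ _ _ =>
      Ideal.IsPrime.comap (act σ)).1 hsub
    have heq : P = P0.comap (act σ) := hP.eq_of_le (Ideal.IsPrime.ne_top (Ideal.IsPrime.comap _)) hle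
    exact ⟨σ, fun x => by rw [heq]; rfl⟩
  have key : ∀ Q : MaximalSpectrum (integralClosure O L), ∃ τ : L →ₐ[K] M, ∀ x : integralClosure O L,
      x ∈ Q.asIdeal ↔ (⟨τ x.1, IsIntegral.map (τ.restrictScalars O) x.2⟩ : BM) ∈ P0 := by
    intro Q
    let ι : L →ₐ[K] M := IsScalarTower.toAlgHom K L M
    let jL : integralClosure O L →+* BM :=
      ((ι.restrictScalars O).toRingHom.comp (integralClosure O L).val.toRingHom).codRestrict BM
        fun x => IsIntegral.map (ι.restrictScalars O) x.2
    letI := jL.toAlgebra
    haveI : IsScalarTower O (integralClosure O L) BM := IsScalarTower.of_algebraMap_eq fun a => Subtype.ext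
      ((ι.restrictScalars O).commutes a).symm
    haveI : Algebra.IsIntegral (integralClosure O L) BM := Algebra.IsIntegral.tower_top O
    have hinj : Function.Injective jL := fun a b h => Subtype.ext (ι.toRingHom.injective (congrArg Subtype.val h))
    haveI := Q.isMaximal
    obtain ⟨P, -, hPp, hP⟩ := Ideal.exists_ideal_over_prime_of_isIntegral Q.asIdeal (⊥ : Ideal BM)
      (by rw [show (⊥ : Ideal BM).comap (algebraMap _ BM) = ⊥ from
            (RingHom.ker_eq_comap_bot _).symm.trans ((RingHom.injective_iff_ker_eq_bot _).1 hinj)]; exact bot_le)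
    haveI : P.IsMaximal := Ideal.isMaximal_of_isIntegral_of_isMaximal_comap P (hP.symm ▸ Q.isMaximal)
    obtain ⟨σ, hσ⟩ := htrans P inferInstance
    refine ⟨σ.toAlgHom.comp ι, fun x => ?_⟩
    rw [← hP, Ideal.mem_comap, hσ]
    rfl
  choose g hg using key
  refine ⟨M, inferInstance, inferInstance, g, fun Q Q' h => MaximalSpectrum.ext (Ideal.ext fun x => ?_)⟩
  rw [hg Q, hg Q']
  simp [h]

/-- At most separable-degree many maximal ideals over a unibranch local domain. -/
theorem mk_maximalSpectrum_le {O K L : Type u} [CommRing O] [Field K] [Algebra O K]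
    [IsLocalRing (integralClosure O K)] [Field L] [Algebra K L] [Algebra O L] [IsScalarTower O K L]
    [FiniteDimensional K (separableClosure K L)] :
    Cardinal.mk (MaximalSpectrum (integralClosure O L)) ≤ Module.finrank K (separableClosure K L) := by
  classical
  let Ls := separableClosure K L
  let Bs := integralClosure O Ls
  let B := integralClosure O L
  let j : Bs →+* B := (Ls.val.toRingHom.comp Bs.val.toRingHom).codRestrict B fun x =>
    IsIntegral.map (Ls.val.restrictScalars O) x.2
  letI := j.toAlgebra
  haveI : IsScalarTower O Bs B := IsScalarTower.of_algebraMap_eq fun a => Subtype.ext rfl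
  haveI : Algebra.IsIntegral Bs B := Algebra.IsIntegral.tower_top O
  let q := ringExpChar K
  haveI : ExpChar K q := ringExpChar.expChar K
  have hpow : ∀ x : B, ∃ e : ℕ, ∃ z : Bs, j z = x ^ (q ^ e) := by
    intro x
    have hxK : IsIntegral K (x : L) := IsIntegral.tower_top x.2
    obtain ⟨g, hgsep, e, hge⟩ := (minpoly.irreducible hxK).hasSeparableContraction q
    have he : IsSeparable K ((x : L) ^ q ^ e) := by
      have h0 : Polynomial.aeval ((x : L) ^ q ^ e) g = 0 := by
        rw [← Polynomial.expand_aeval, hge, minpoly.aeval]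
      exact hgsep.of_dvd (minpoly.dvd K _ h0)
    refine ⟨e, ⟨⟨_, mem_separableClosure_iff.2 he⟩, ?_⟩, Subtype.ext rfl⟩
    have hint : IsIntegral O ((x : L) ^ q ^ e) := x.2.pow _
    exact (isIntegral_algHom_iff (Ls.val.restrictScalars O) Subtype.val_injective).1 hint
  let φ : MaximalSpectrum B → MaximalSpectrum Bs := fun Q =>
    ⟨Q.asIdeal.comap j, by
      haveI := Q.isMaximal
      exact Ideal.isMaximal_comap_of_isIntegral_of_isMaximal (R := Bs) Q.asIdeal⟩
  have hφ : Function.Injective φ := fun Q Q' h => MaximalSpectrum.ext (Ideal.ext fun x => by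
    obtain ⟨e, z, hz⟩ := hpow x
    have hq : q ^ e ≠ 0 := pow_ne_zero _ (expChar_ne_zero K q)
    haveI := Q.isMaximal.isPrime
    haveI := Q'.isMaximal.isPrime
    rw [← Ideal.IsPrime.pow_mem_iff_mem (I := Q.asIdeal) inferInstance (q ^ e) (Nat.pos_of_ne_zero hq),
      ← Ideal.IsPrime.pow_mem_iff_mem (I := Q'.asIdeal) inferInstance (q ^ e) (Nat.pos_of_ne_zero hq), ← hz]
    exact SetLike.ext_iff.1 (congrArg MaximalSpectrum.asIdeal h) z)
  obtain ⟨M, _, _, g, hg⟩ := exists_injection_algHom (O := O) (K := K) (L := Ls)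
  refine (Cardinal.mk_le_of_injective (hg.comp hφ)).trans ?_
  rw [Cardinal.mk_fintype, ← Nat.card_eq_fintype_card]
  exact Nat.cast_le.2 (card_algHom_le_finrank K Ls M)

end Groth.Agent.FormalFun
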