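import Groth.Agent.FormalFun.SteinCount
import Groth.Agent.FormalFun.UnibranchCount
import Mathlib.FieldTheory.PurelyInseparable.PerfectClosure

/-!
# Connected components of fibres over unibranch points
-/

universe u

open CategoryTheory Limits AlgebraicGeometry TopologicalSpace Opposite

namespace Groth.Agent.FormalFun

/-- at most separable degree many components over a unibranch point -/
theorem mk_connectedComponents_le_of_isUnibranch {X Y : Scheme.{u}} [IsIntegral X]
    [IsIntegral Y] [IsLocallyNoetherian Y] (f : X ⟶ Y) [IsProper f]
    (hdom : f.base (genericPoint X) ⤳ genericPoint Y) (y : Y) (hy : CAlg2.IsUnibranch (Y.presheaf.stalk y))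
    [Algebra Y.functionField X.functionField]
    (halg : algebraMap Y.functionField X.functionField = CohIII.stalkToFunctionField f (genericPoint Y) hdom)
    [FiniteDimensional Y.functionField (separableClosure Y.functionField X.functionField)] :
    Cardinal.mk (_root_.ConnectedComponents (f.fiber y)) ≤
      Module.finrank Y.functionField (separableClosure Y.functionField X.functionField) := by
  have hη : f.base (genericPoint X) = genericPoint Y := (hdom.antisymm (genericPoint_specializes _)).eq
  have h : f.base (genericPoint X) ⤳ y := hdom.trans (genericPoint_specializes y)
  refine (mk_connectedComponents_le f hη y h).trans ?_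
  letI : Algebra (Y.presheaf.stalk y) X.functionField := (CohIII.stalkToFunctionField f y h).toAlgebra
  haveI : IsScalarTower (Y.presheaf.stalk y) Y.functionField X.functionField :=
    IsScalarTower.of_algebraMap_eq fun a => by
      rw [halg]
      show f.stalkMap (genericPoint X) (Y.presheaf.stalkSpecializes h a) =
        f.stalkMap (genericPoint X) (Y.presheaf.stalkSpecializes hdom
          (Y.presheaf.stalkSpecializes (genericPoint_specializes y) a))
      rw [← CategoryTheory.ConcreteCategory.comp_apply (Y.presheaf.stalkSpecializes (genericPoint_specializes y)),
        TopCat.Presheaf.stalkSpecializes_comp]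
  haveI := isLocalRing_integralClosure (K := Y.functionField) hy
  exact mk_maximalSpectrum_le (O := Y.presheaf.stalk y) (K := Y.functionField) (L := X.functionField)

end Groth.Agent.FormalFun
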