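import Groth.Agent.FormalFun.Stein
import Groth.Agent.FormalFun.Fibration
import Mathlib.AlgebraicGeometry.Morphisms.UniversallyInjective
import Mathlib.FieldTheory.PurelyInseparable.Basic

/-!
# Geometric connectedness of the fibres of proper morphisms with dominating components
-/

universe u

open CategoryTheory Limits AlgebraicGeometry TopologicalSpace Opposite

namespace Groth.Agent.FormalFun

/-- the residue extension at the generic point of an intermediate scheme is purely inseparable -/
lemma isPurelyInseparable_residueFieldMap {X N Y : Scheme.{u}} [IsIntegral X] [IsIntegral N] [IsIntegral Y]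
    (h : X ⟶ N) (g : N ⟶ Y) [IsIntegralHom g] (f : X ⟶ Y) (hf : h ≫ g = f)
    (hN : h.base (genericPoint X) = genericPoint N)
    (hdom : f.base (genericPoint X) ⤳ genericPoint Y)
    (hrad : ∀ x : X.functionField,
      (∃ q : Polynomial Y.functionField, q ≠ 0 ∧
        Polynomial.eval₂ (CohIII.stalkToFunctionField f (genericPoint Y) hdom) x q = 0) →
      ∃ e : ℕ, x ^ (ringExpChar X.functionField ^ e) ∈
        Set.range (CohIII.stalkToFunctionField f (genericPoint Y) hdom)) :
    (g.residueFieldMap (h.base (genericPoint X))).hom.IsPurelyInseparable := by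
  subst hf
  let ξ := genericPoint X
  let η' := h.base ξ
  let ι := CohIII.stalkToFunctionField (h ≫ g) (genericPoint Y) hdom
  let r : X.functionField →+* X.residueField ξ := (X.residue ξ).hom
  let θ : N.residueField η' →+* X.residueField ξ := (h.residueFieldMap ξ).hom
  letI := ι.toAlgebra
  -- every element of the local ring at the intermediate point is algebraic
  have halgK : ∀ a : N.presheaf.stalk η', IsAlgebraic Y.functionField ((h.stalkMap ξ).hom a) := by
    intro a
    obtain ⟨_, ⟨U, hU, rfl⟩, hgU, -⟩ := Y.isBasis_affineOpens.exists_subset_of_mem_open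
      (Set.mem_univ (genericPoint Y)) isOpen_univ
    change genericPoint Y ∈ U at hgU
    have hη : (h ≫ g).base ξ = genericPoint Y := genericPoint_map (h ≫ g) hdom
    have hU' : IsAffineOpen (g ⁻¹ᵁ U) := hU.preimage _
    have hmem : η' ∈ g ⁻¹ᵁ U := by
      show g.base (h.base ξ) ∈ U
      have : (h ≫ g).base ξ ∈ U := hη.symm ▸ hgU
      exact this
    have hgX : ξ ∈ (h ≫ g) ⁻¹ᵁ U := hmem
    letI : Algebra Γ(N, g ⁻¹ᵁ U) (N.presheaf.stalk η') := (N.presheaf.germ (g ⁻¹ᵁ U) η' hmem).hom.toAlgebra
    haveI : IsLocalization.AtPrime (N.presheaf.stalk η') (hU'.primeIdealOf ⟨η', hmem⟩).asIdeal :=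
      hU'.isLocalization_stalk ⟨η', hmem⟩
    obtain ⟨⟨c, s⟩, hcs⟩ := IsLocalization.surj (hU'.primeIdealOf ⟨η', hmem⟩).asIdeal.primeCompl a
    have hC : ∀ c : Γ(N, g ⁻¹ᵁ U),
        IsAlgebraic Y.functionField ((h.stalkMap ξ).hom ((N.presheaf.germ (g ⁻¹ᵁ U) η' hmem).hom c)) := by
      intro c
      obtain ⟨P, hP, hPc⟩ := g.isIntegral_app U hU c
      refine (IsIntegral.isAlgebraic (R := Y.functionField) ⟨P.map (Y.presheaf.germ U (genericPoint Y) hgU).hom, hP.map _, ?_⟩)
      have e : (algebraMap Y.functionField X.functionField).comp (Y.presheaf.germ U (genericPoint Y) hgU).hom =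
          ((h.stalkMap ξ).hom.comp (N.presheaf.germ (g ⁻¹ᵁ U) η' hmem).hom).comp (g.app U).hom := by
        refine RingHom.ext fun t => ?_
        refine (germ_stalkToFunctionField (h ≫ g) hdom U hgU hgX t).symm.trans ?_
        show _ = (h.stalkMap ξ).hom ((N.presheaf.germ (g ⁻¹ᵁ U) η' hmem).hom (g.app U t))
        rw [Scheme.Hom.germ_stalkMap_apply, Scheme.Hom.comp_app]
        rfl
      rw [Polynomial.eval₂_map, e]
      exact (Polynomial.hom_eval₂ P (g.app U).hom ((h.stalkMap ξ).hom.comp (N.presheaf.germ (g ⁻¹ᵁ U) η' hmem).hom) c).symm.trans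
        ((congrArg _ hPc).trans (map_zero _))
    have hs : IsUnit ((h.stalkMap ξ).hom (algebraMap Γ(N, g ⁻¹ᵁ U) (N.presheaf.stalk η') s)) :=
      (IsLocalization.map_units (N.presheaf.stalk η') s).map _
    have e2 : (h.stalkMap ξ).hom a = (h.stalkMap ξ).hom (algebraMap Γ(N, g ⁻¹ᵁ U) (N.presheaf.stalk η') c) *
        ((h.stalkMap ξ).hom (algebraMap Γ(N, g ⁻¹ᵁ U) (N.presheaf.stalk η') s))⁻¹ := by
      rw [eq_mul_inv_iff_mul_eq₀ hs.ne_zero, ← map_mul]
      exact congrArg _ hcs
    rw [e2]
    exact (hC c).mul (hC s).inv
  -- compatibility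
  have hcompat : ∀ t : Y.functionField, ∃ z, θ ((g.residueFieldMap η').hom z) = r (ι t) := by
    intro t
    let t' := (Y.presheaf.stalkSpecializes hdom).hom t
    refine ⟨(Y.residue (g.base η')).hom t', ?_⟩
    have h1 := ConcreteCategory.congr_hom (Scheme.residue_residueFieldMap g η') t'
    have h2 := ConcreteCategory.congr_hom (Scheme.residue_residueFieldMap h ξ) ((g.stalkMap η').hom t')
    refine (congrArg θ h1).trans (h2.trans ?_)
    show r ((h.stalkMap ξ).hom ((g.stalkMap η').hom t')) = r (((h ≫ g).stalkMap ξ).hom t')
    rw [Scheme.Hom.stalkMap_comp]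
    rfl
  let p := ringExpChar X.functionField
  haveI : ExpChar X.functionField p := ringExpChar.expChar _
  haveI : ExpChar (X.residueField ξ) p := expChar_of_injective_ringHom r.injective p
  let φ : Y.residueField (g.base η') →+* N.residueField η' := (g.residueFieldMap η').hom
  letI := φ.toAlgebra
  haveI : ExpChar (Y.residueField (g.base η')) p := (θ.comp φ).expChar (θ.comp φ).injective p
  show IsPurelyInseparable (Y.residueField (g.base η')) (N.residueField η')
  rw [isPurelyInseparable_iff_pow_mem (Y.residueField (g.base η')) p]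
  intro x
  obtain ⟨a, rfl⟩ := N.residue_surjective η' x
  obtain ⟨q, hq, hqa⟩ := halgK a
  obtain ⟨e, t, ht⟩ := hrad _ ⟨q, hq, hqa⟩
  obtain ⟨z, hz⟩ := hcompat t
  refine ⟨e, z, θ.injective ?_⟩
  refine hz.trans ?_
  rw [show ι t = _ from ht, map_pow, map_pow]
  exact congrArg (fun v => v ^ (p ^ e)) (ConcreteCategory.congr_hom (Scheme.residue_residueFieldMap h ξ) a).symm

set_option backward.isDefEq.respectTransparency.types false in
set_option backward.defeqAttrib.useBackward true in
/-- two field valued points at a point with purely inseparable residue extension agree -/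
lemma hom_ext_of_isPurelyInseparable {N Y : Scheme.{u}} (g : N ⟶ Y) {K : Type u} [Field K]
    (x₁ x₂ : Spec (CommRingCat.of K) ⟶ N)
    (hp : x₁ (IsLocalRing.closedPoint K) = x₂ (IsLocalRing.closedPoint K))
    (hi : (g.residueFieldMap (x₁ (IsLocalRing.closedPoint K))).hom.IsPurelyInseparable)
    (hg : x₁ ≫ g = x₂ ≫ g) : x₁ = x₂ := by
  obtain ⟨e, he⟩ := Scheme.SpecToEquivOfField_eq_iff.mp congr((Y.SpecToEquivOfField K) $(hg))
  apply (N.SpecToEquivOfField K).injective
  dsimp at e he
  simp only [Scheme.descResidueField_stalkClosedPointTo_comp] at e he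
  rw [← g.residueFieldMap_congr'_assoc hp, CommRingCat.hom_ext_iff] at he
  rw [Scheme.SpecToEquivOfField_eq_iff]
  algebraize [(g.residueFieldMap (x₁ (IsLocalRing.closedPoint K))).hom]
  refine ⟨hp, CommRingCat.hom_ext ?_⟩
  exact IsPurelyInseparable.injective_comp_algebraMap
    (Y.residueField (g (x₁ (IsLocalRing.closedPoint K)))) (N.residueField (x₁ (IsLocalRing.closedPoint K))) _ he

/-- all fibres geometrically connected -/
theorem geometricallyConnected_of_dominating {X Y : Scheme.{u}}
    [IsIntegral X] [IsIntegral Y] [IsLocallyNoetherian Y] (f : X ⟶ Y) [IsProper f]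
    (hdom : f.base (genericPoint X) ⤳ genericPoint Y)
    (hopen : ∀ (Y' : Scheme.{u}) (g : Y' ⟶ Y), IrreducibleSpace ↥Y' → IsLocallyNoetherian Y' →
      IsDominant g → ∀ Z ∈ irreducibleComponents ↥(pullback f g), Dense ((pullback.snd f g).base '' Z))
    (hrad : ∀ x : X.functionField,
      (∃ q : Polynomial Y.functionField, q ≠ 0 ∧
        Polynomial.eval₂ (CohIII.stalkToFunctionField f (genericPoint Y) hdom) x q = 0) →
      ∃ e : ℕ, x ^ (ringExpChar X.functionField ^ e) ∈
        Set.range (CohIII.stalkToFunctionField f (genericPoint Y) hdom)) :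
    GeometricallyConnected f := by
  let N := f.normalization
  let g := f.fromNormalization
  let h := f.toNormalization
  have hgeom : GeometricallyConnected h := by
    haveI := SteinLead.isFinite_fromNormalization f
    haveI : IsLocallyNoetherian f.normalization := LocallyOfFiniteType.isLocallyNoetherian f.fromNormalization
    haveI := isProper_toNormalization f
    exact geometricallyConnected_of_isIso_app h (isIso_app_toNormalization f)
  haveI := SteinLead.isFinite_fromNormalization f
  haveI hNn : IsLocallyNoetherian N := LocallyOfFiniteType.isLocallyNoetherian g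
  haveI : IsProper h := isProper_toNormalization f
  haveI : Surjective h := surjective_toNormalization f
  have hη := genericPoint_map f hdom
  haveI : Surjective f := ⟨fun y =>
    (genericPoint_specializes y).mem_closed f.isClosedMap.isClosed_range ⟨genericPoint X, hη⟩⟩
  haveI : Surjective (h ≫ g) := by rw [f.toNormalization_fromNormalization]; infer_instance
  haveI : Surjective g := Surjective.of_comp h g
  have hN : h.base (genericPoint X) = genericPoint N := by
    obtain ⟨x, hx⟩ := h.surjective (genericPoint N)
    refine ((genericPoint_specializes x).map h.continuous |>.antisymm ?_).eq.trans hx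
    rw [hx]
    exact genericPoint_specializes _
  have hfib : ∀ p : N, g.base p = genericPoint Y → p = genericPoint N := by
    intro p hp
    haveI : DiscreteTopology ↥(g.fiber (genericPoint Y)) :=
      (IsLocallyArtinian.iff_isLocallyNoetherian_and_discreteTopology.1
        (inferInstance : IsLocallyArtinian (g.fiber (genericPoint Y)))).2
    have hη' : g.base (genericPoint N) = genericPoint Y := by
      rw [← hN, ← Scheme.Hom.comp_apply, f.toNormalization_fromNormalization]
      exact hη
    have hsp : (g.fiberHomeo (genericPoint Y)).symm ⟨genericPoint N, hη'⟩ ⤳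
        (g.fiberHomeo (genericPoint Y)).symm ⟨p, hp⟩ :=
      (g.fiberι (genericPoint Y)).isEmbedding.toIsInducing.specializes_iff.1 (by
        rw [Scheme.Hom.fiberι_fiberHomeo_symm, Scheme.Hom.fiberι_fiberHomeo_symm]
        exact genericPoint_specializes p)
    exact (congrArg Subtype.val ((g.fiberHomeo (genericPoint Y)).symm.injective hsp.eq)).symm
  have hpi : (g.residueFieldMap (genericPoint N)).hom.IsPurelyInseparable :=
    hN ▸ isPurelyInseparable_residueFieldMap h g f f.toNormalization_fromNormalization hN hdom hrad
  haveI : IsDominant g := inferInstance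
  haveI : UniversallyInjective g := by
    rw [UniversallyInjective.iff_diagonal, surjective_iff]
    intro q
    let m : pullback f g ⟶ pullback g g := pullback.map f g g g h (𝟙 _) (𝟙 _) (by simp [h, g]) (by simp)
    haveI : Surjective m := by
      have hsq : IsPullback m (pullback.fst f g) (pullback.fst g g) h := by
        refine IsPullback.of_right (h₁₂ := pullback.snd g g) (v₁₃ := g) (h₂₂ := g) ?_ (pullback.lift_fst _ _ _) (IsPullback.of_hasPullback g g).flip
        simp only [m, pullback.map, pullback.lift_snd, Category.comp_id, h, g, f.toNormalization_fromNormalization]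
        exact (IsPullback.of_hasPullback f g).flip
      exact MorphismProperty.of_isPullback (P := @Surjective) hsq.flip inferInstance
    obtain ⟨z, rfl⟩ := m.surjective q
    let Z := irreducibleComponent z
    have hZ := isIrreducible_irreducibleComponent (x := z)
    let w := hZ.genericPoint
    have hw : IsGenericPoint w Z := hZ.isGenericPoint_genericPoint isClosed_irreducibleComponent
    have hwz : w ⤳ z := hw.specializes mem_irreducibleComponent
    have hd := hopen N g (inferInstance : IrreducibleSpace N) hNn inferInstance Z
      (irreducibleComponent_mem_irreducibleComponents z)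
    have hsnd : (pullback.snd f g).base w = genericPoint N := by
      refine ((genericPoint_specializes _).antisymm ?_).eq.symm
      rw [specializes_iff_mem_closure]
      have hsub : (pullback.snd f g).base '' Z ⊆ closure {(pullback.snd f g).base w} := by
        rintro _ ⟨v, hv, rfl⟩
        exact specializes_iff_mem_closure.1 ((hw.specializes hv).map (pullback.snd f g).continuous)
      exact closure_minimal hsub isClosed_closure (hd _)
    let q₀ := m.base w
    have h₂ : (pullback.snd g g).base q₀ = genericPoint N := by
      rw [← hsnd]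
      have hm : m ≫ pullback.snd g g = pullback.snd f g := (pullback.lift_snd _ _ _).trans (Category.comp_id _)
      rw [← hm]; rfl
    have h₁ : (pullback.fst g g).base q₀ = genericPoint N := by
      apply hfib
      rw [← Scheme.Hom.comp_apply, pullback.condition, Scheme.Hom.comp_apply, h₂]
      rw [← hN, ← Scheme.Hom.comp_apply, f.toNormalization_fromNormalization]
      exact hη
    have hq₀ : q₀ ∈ Set.range (pullback.diagonal g).base := by
      let φ := (pullback g g).fromSpecResidueField q₀
      let x₁ := (φ ≫ pullback.fst g g)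
      let x₂ := (φ ≫ pullback.snd g g)
      have hx : x₁ = x₂ := by
        have hg12 : x₁ ≫ g = x₂ ≫ g := by simp [x₁, x₂, pullback.condition]
        have hp₁ : x₁ (IsLocalRing.closedPoint _) = genericPoint N := by
          simp only [x₁, Scheme.Hom.comp_apply, φ, Scheme.fromSpecResidueField_apply]; exact h₁
        have hp₂ : x₂ (IsLocalRing.closedPoint _) = genericPoint N := by
          simp only [x₂, Scheme.Hom.comp_apply, φ, Scheme.fromSpecResidueField_apply]; exact h₂
        exact hom_ext_of_isPurelyInseparable g x₁ x₂ (hp₁.trans hp₂.symm) (hp₁.symm ▸ hpi) hg12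
      refine ⟨x₁ (IsLocalRing.closedPoint _), ?_⟩
      have hφ : φ = x₁ ≫ pullback.diagonal g := by
        apply pullback.hom_ext
        · simp [x₁]
        · simp only [Category.assoc, pullback.diagonal_snd, Category.comp_id]; exact hx.symm
      rw [← Scheme.Hom.comp_apply, ← hφ, Scheme.fromSpecResidueField_apply]
    exact (hwz.map m.continuous).mem_closed (pullback.diagonal g).isClosedEmbedding.isClosed_range hq₀
  refine ⟨geometrically_iff_of_isClosedUnderIsomorphisms.mpr fun K _ s => ?_⟩
  let m₁ : pullback f s ⟶ pullback g s := pullback.map f s g s h (𝟙 _) (𝟙 _) (by simp [h, g]) (by simp)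
  have hsq : IsPullback m₁ (pullback.fst f s) (pullback.fst g s) h := by
    refine IsPullback.of_right (h₁₂ := pullback.snd g s) (v₁₃ := s) (h₂₂ := g) ?_ (pullback.lift_fst _ _ _) (IsPullback.of_hasPullback g s).flip
    simp only [m₁, pullback.map, pullback.lift_snd, Category.comp_id, h, g, f.toNormalization_fromNormalization]
    exact (IsPullback.of_hasPullback f s).flip
  haveI : GeometricallyConnected m₁ := MorphismProperty.of_isPullback (P := @GeometricallyConnected) hsq.flip hgeom
  haveI : UniversallyInjective (pullback.snd g s) := MorphismProperty.pullback_snd (P := @UniversallyInjective) g s inferInstance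
  haveI : Subsingleton ↥(pullback g s) := ⟨fun a b => (pullback.snd g s).injective (Subsingleton.elim _ _)⟩
  haveI : Nonempty ↥(pullback g s) := ⟨((pullback.snd g s).surjective (IsLocalRing.closedPoint K)).choose⟩
  exact GeometricallyConnected.connectedSpace_of_subsingleton (f := m₁)

end Groth.Agent.FormalFun
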